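import Cfsg.Agent.E82.Fr.A8

/-!
# S3369: the T8 lemma (helper39)

Four commuting elements of order three whose centraliser is the torus: the rational group `3⁸` fixes the fixed space of
the socle, so `3⁸` divides the order of `H`.
-/

set_option autoImplicit false
set_option linter.unusedSectionVars false
set_option maxRecDepth 100000

namespace Cfsg.Agent.E82.Fr

open Cfsg Cfsg.Lie Cfsg.Lie.ChevalleyDatum
open Cfsg.Agent.ChevalleyStructure.CoxeterGeomTypes Cfsg.Agent.ChevalleyStructure.CoxeterGeom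
open Cfsg.Agent.Tits.Roots Cfsg.Agent.Nodes.BNOf Cfsg.Agent.Nodes.RGDChev
open Cfsg.Agent.H129.TorusChar (cX exists_cX IsMC)
open Cfsg.Agent.BpExc.RowsUntw (e8T)
open Cfsg.Agent.BpExc.FamUntw (phi)
open Cfsg.Agent.BpExc.FamInst (inv_E8)
open Cfsg.Agent.KFacts.RgdChevCoord (TT)
open Cfsg.Agent.H939.L64 (KK E2 LK em aK rE fr rE_apply fixS em_injective)
open Cfsg.Agent.H413.L64 (locKK vl twist_fix pow_inj_val)
open Cfsg.Agent.H413.L16
open Cfsg.Agent.H876.L64 (aK_mul aK_inv aK_inv' aK_tor)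
open Cfsg.Agent.H259.L34 (dz dz_sr)
open Cfsg.Agent.H201.L34 (gz phi_gz)
open Cfsg.Agent.H942.L16 (BF BF_symm)

attribute [local instance] Cfsg.Agent.H413.L64.charKK

variable {ζ : KK}

theorem phi_eq : phi chevE8 KK 2 1 = Cfsg.Agent.H129.TorusUntw.phi chevE8 KK 2 1 := rfl

/-- the Frobenius map in a frame -/
theorem frob_frame {z : GK} (hz : z⁻¹ * phi chevE8 KK 2 1 z = gz) (v : LK) :
    aK z⁻¹ (fr v) = Cfsg.Agent.H201.L34.Fz (aK z⁻¹ v) := Cfsg.Agent.H201.L34.frobz hz v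

theorem exists_tv {N : ℕ} [NeZero N] (hζ : IsPrimitiveRoot ζ N) (v : Fin 8 → ZMod N) : ∃ t, Tv t v ζ := by
  have h0 : ζ ≠ 0 := hζ.ne_zero (NeZero.ne N)
  obtain ⟨t, ht, h⟩ := exists_cX e8T inv_E8 one_ne_zero
    (IsMC.of_prod (fun i => ζ ^ (v i).val) fun i => pow_ne_zero _ h0) fun i => ⟨_, pow_one _⟩
  refine ⟨t, ht, fun j => ?_⟩
  rw [h, Finset.prod_eq_single j]
  · rw [sr_self, zpow_one]
  · intro b _ hb
    rw [sr_ne hb, zpow_zero]
  · intro hk; exact absurd (Finset.mem_univ j) hk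

theorem Tv.inj {N : ℕ} [NeZero N] (hζ : IsPrimitiveRoot ζ N) {t : GK} {u v : Fin 8 → ZMod N} (h : Tv t u ζ) (h' : Tv t v ζ) :
    u = v := funext fun j => (pow_inj_val hζ).1 ((h.2 j).symm.trans (h'.2 j))

/-- the torus elements of order three are rational in a frame with the Frobenius map `gz` -/
theorem exists_one (hζ : IsPrimitiveRoot ζ 3) {z : GK} (hz : z⁻¹ * phi chevE8 KK 2 1 z = gz) (v : Fin 8 → ZMod 3) :
    ∃ g : E2, Tv (cj z g) v ζ := by
  obtain ⟨t, ht⟩ := exists_tv hζ v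
  obtain ⟨w, hw, hL⟩ := good_gz
  have h1 := twist_fix 2 1 (N := 3) (by norm_num) locKK hζ ht.1 ht.2 (w := w) (fun i => by
    have h : rep cs8 e8T.isCartan w (sr i) = -sr i := hL _
    rw [h, Cfsg.Agent.H5.L34.vl_neg]
    exact ⟨-vl v (sr i), by push_cast; ring⟩) hw.rp
  have h2 : phi chevE8 KK 2 1 z = z * gz := by rw [← hz]; group
  have h3 : phi chevE8 KK 2 1 (z * t * z⁻¹) = z * t * z⁻¹ := by
    rw [map_mul, map_mul, map_inv, h2]
    calc z * gz * phi chevE8 KK 2 1 t * (z * gz)⁻¹ = z * (gz * phi chevE8 KK 2 1 t * gz⁻¹) * z⁻¹ := by group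
      _ = _ := by rw [h1]
  obtain ⟨g, hg⟩ := Cfsg.Agent.H977.L16.exists_em (G := z * t * z⁻¹) fun v => by
    rw [fr_aK, ← phi_eq, h3]
  refine ⟨g, ?_⟩
  rw [cj_apply, hg, show z⁻¹ * (z * t * z⁻¹) * z = t by group]
  exact ht

theorem cj_inj (z : GK) : Function.Injective (cj z) := (MulAut.conj z⁻¹).injective.comp em_injective

theorem tor_fix {t : GK} (ht : t ∈ TT chevE8 KK) {u : LK} (h : ∀ s < 240, BF u (er s) = 0) : aK t u = u := by
  funext i
  rw [aK_tor ht]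
  rcases i with i | s
  · exact one_mul _
  · have hs : (s : ℕ) < 240 := lt_of_lt_of_eq s.2 nr
    have h1 := h (239 - s) (by omega)
    rw [BF_symm, BF_er (by omega)] at h1
    have h2 : u (Sum.inr s) = 0 := by
      rw [← h1]
      congr 2
      exact Fin.ext (by simp only; omega)
    rw [h2, mul_zero]

variable {S : Type} [Group S] {f : S →* E2} {H : Subgroup E2}

theorem t8_core (hS : Sit f H) (hfx : Fixd f) (hζ : IsPrimitiveRoot ζ 3) {z : GK}
    (hz : z⁻¹ * phi chevE8 KK 2 1 z = gz) (h : ∀ r < 240, ∃ (s : S) (v : Fin 8 → ZMod 3), One (f s) v ζ z ∧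
      dz v (vec chevE8 8 r) ≠ 0) : 3 ^ 8 ∣ Nat.card (MulAut S) := by
  choose g hg using exists_one hζ hz
  have hH : ∀ v, g v ∈ H := fun v => by
    obtain ⟨u, hu, hu'⟩ := hfx
    refine hS.mem_of_fix (A := fixS (rE.comp f)) ((Submodule.ne_bot_iff _).2 ⟨u, mem_fix.2 hu', hu⟩)
      (fun k hk x hx => mem_fix.2 (hS.fix_stable hk (mem_fix.1 hx))) fun x hx => ?_
    rw [← aK_inv z x, rE_cj, tor_fix (hg v).1]
    intro r hr
    obtain ⟨s, V, h1, h2⟩ := h r hr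
    refine h1.tv.orth hζ ?_ hr h2
    have h3 := rE_cj z (f s) (aK z⁻¹ x)
    rw [aK_inv, mem_fix.1 hx s] at h3
    conv_rhs => rw [h3]
    rw [aK_inv']
  let φ : Multiplicative (Fin 8 → ZMod 3) →* ↥H := MonoidHom.mk' (fun v => ⟨g v.toAdd, hH _⟩) fun a b => by
    apply Subtype.ext
    apply cj_inj z
    show cj z (g (a.toAdd + b.toAdd)) = cj z (g a.toAdd * g b.toAdd)
    rw [map_mul]
    exact (hg _).ext ((hg _).mul hζ (hg _))
  have hφ : Function.Injective φ := fun a b hab => by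
    have h1 : g a.toAdd = g b.toAdd := congrArg Subtype.val hab
    have h2 := hg a.toAdd
    rw [h1] at h2
    exact Multiplicative.toAdd.injective (h2.inj hζ (hg _))
  have h1 := Subgroup.card_dvd_of_injective φ hφ
  rw [Nat.card_congr Multiplicative.toAdd, Nat.card_fun, Nat.card_zmod, Nat.card_eq_fintype_card, Fintype.card_fin] at h1
  exact h1.trans hS.card_dvd

/-- the classes 92 and 134 are small -/
theorem sm_of_cf (hζ : IsPrimitiveRoot ζ 3) {y : E2} {v : Fin 8 → ZMod 3} {z : GK} (h : One y v ζ z)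
    (hc : cf y = 92 ∨ cf y = 134) : Sm v := by
  have h3 : y ^ 3 = 1 := cj_inj z (by rw [map_pow, h.tv.cube hζ, map_one])
  have key : ∀ x z', One y (vc x) ζ z' → Sm (vc x) → Sm v := fun x z' h1 h2 => by
    obtain ⟨w, hw⟩ := TupZ.conj_w (ι := Unit) (x := fun _ => y) (V := fun _ => v) (V' := fun _ => vc x) hζ (fun _ => h)
      (fun _ => h1)
    rw [← hw ()]
    exact h2.wa w
  rcases hc with hc | hc
  · obtain ⟨z', h1⟩ := (norm1 hζ h3).2.1 hc
    exact key _ z' h1 (sm_of ![0, 2, 2, 4, 3, 2, 1, 0] (by decide +kernel))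
  · obtain ⟨z', h1⟩ := (norm1 hζ h3).1 hc
    exact key _ z' h1 sm515

/-- the hypotheses on four elements -/
structure Quad (y : Fin 4 → E2) (a d : ℕ) : Prop where
  cube : ∀ i, y i ^ 3 = 1
  comm : ∀ i j, Commute (y i) (y j)
  one : ∀ i, cf (y i) = a
  mul : ∀ i j, i < j → cf (y i * y j) = d
  div : ∀ i j, i < j → cf (y i * (y j)⁻¹) = d

theorem Quad.trip {y : Fin 4 → E2} {a d : ℕ} (h : Quad y a d) : Trip (fun i => y i.castSucc) a d :=
  ⟨fun _ => h.cube _, fun _ _ => h.comm _ _, fun _ => h.one _, fun _ _ hij => h.mul _ _ (Fin.castSucc_lt_castSucc_iff.2 hij),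
    fun _ _ hij => h.div _ _ (Fin.castSucc_lt_castSucc_iff.2 hij)⟩

theorem dz_dt {a r : ℕ} (h : ∀ j, vc a j = ((vec chevE8 8 r j : ℤ) : ZMod 3)) (x : ℕ) :
    dz (vc x) (vec chevE8 8 r) = ((dt a x : ℕ) : ZMod 3) := by
  rw [dt_eq]
  unfold dz
  exact Finset.sum_congr rfl fun i _ => by rw [h]

theorem dt_ne {a r x : ℕ} (h : ∀ j, vc a j = ((vec chevE8 8 r j : ℤ) : ZMod 3)) (hr : r < 240) (h0 : dt a x ≠ 0) :
    dz (vc x) (vec chevE8 8 r) ≠ 0 ∧ dz (vc x) (vec chevE8 8 (239 - r)) ≠ 0 := by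
  have h1 : dz (vc x) (vec chevE8 8 r) ≠ 0 := by
    rw [dz_dt h, Ne, ZMod.natCast_eq_zero_iff]
    exact fun h2 => h0 (Nat.eq_zero_of_dvd_of_lt h2 (Nat.mod_lt _ (by norm_num)))
  exact ⟨h1, by rw [vec_neg8 hr, dz_neg]; exact neg_ne_zero.2 h1⟩

theorem chk8a : allN (fun x => !(Nat.beq (tc x) 92 && cp 80 4402 x && cp 80 972 x && cp 80 4726 x) ||
    (!(Nat.beq (dt 9 x) 0) && !(Nat.beq (dt 3 x) 0))) 6561 = true := by decide +kernel

theorem L_cD : ∀ r < 240, (∀ i, dz (vc (cD i)) (vec chevE8 8 r) = 0) → r ∈ [135, 104, 141, 98] := by decide +kernel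

/-- **the T8 lemma, type 92** -/
theorem _root_.Cfsg.Agent.E82.Sit.t8a (hS : Sit f H) (hfx : Fixd f) {y : Fin 4 → S} (h : Quad (fun i => f (y i)) 92 80) :
    3 ^ 8 ∣ Nat.card (MulAut S) := by
  obtain ⟨ζ, z, hζ, h1, -⟩ := frame2 h.trip
  obtain ⟨u, z1, h2, h3⟩ := h1.step hζ (fun i => by fin_cases i; exacts [sm972, sm4726]) (h.cube 3) fun i => h.comm _ _
  obtain ⟨x, hx, rfl⟩ := vc_surj u
  have a0 : One (f (y 0)) (vc 4402) ζ z1 := h2 0
  have a1 : One (f (y 1)) (vc 972) ζ z1 := h2 1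
  have a2 : One (f (y 2)) (vc 4726) ζ z1 := h2 2
  have h4 := allN_spec chk8a x hx
  rw [← cf_tc hζ hx h3, h.one, cp_of hζ a0 h3 (h.mul 0 3 (by decide)) (h.div 0 3 (by decide)),
    cp_of hζ a1 h3 (h.mul 1 3 (by decide)) (h.div 1 3 (by decide)),
    cp_of hζ a2 h3 (h.mul 2 3 (by decide)) (h.div 2 3 (by decide))] at h4
  simp only [Nat.beq_refl, Bool.and_self, Bool.not_true, Bool.false_or, Bool.and_eq_true, Bool.not_eq_true',
    ← Bool.not_eq_true, Nat.beq_eq] at h4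
  obtain ⟨z', h5, h6⟩ := (tup4 a0 a1 a2 h3).frame hζ fun i => by
    fin_cases i
    exacts [sm972, sm4726, sm_of_cf hζ h3 (Or.inl (h.one 3))]
  refine t8_core hS hfx hζ h6 fun r hr => ?_
  by_cases k : ∀ i, dz (vc (cD i)) (vec chevE8 8 r) = 0
  · have k1 := dt_ne (r := 135) (by decide +kernel) (by norm_num) h4.1
    have k2 := dt_ne (r := 141) (by decide +kernel) (by norm_num) h4.2
    refine ⟨y 3, vc x, h5 3, ?_⟩
    have k3 := L_cD r hr k
    simp only [List.mem_cons, List.not_mem_nil, or_false] at k3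
    rcases k3 with rfl | rfl | rfl | rfl
    exacts [k1.1, k1.2, k2.1, k2.2]
  · obtain ⟨i, hi⟩ := not_forall.1 k
    fin_cases i
    exacts [⟨y 0, _, h5 0, hi⟩, ⟨y 1, _, h5 1, hi⟩, ⟨y 2, _, h5 2, hi⟩]

theorem chk8b : allN (fun x => !(Nat.beq (tc x) 80 && cp 92 4401 x && cp 92 4645 x && cp 92 272 x && cp 80 2673 x &&
    cp 80 2216 x && cp 80 28 x && cp 80 297 x) ||
    (!(Nat.beq (dt 729 x) 0) && !(Nat.beq (dt 81 x) 0) && !(Nat.beq (dt 3 x) 0) && !(Nat.beq (dt 9 x) 0))) 6561 = true := by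
  decide +kernel

/-- **the T8 lemma, type 80** -/
theorem _root_.Cfsg.Agent.E82.Sit.t8b (hS : Sit f H) (hfx : Fixd f) {y : Fin 4 → S} (h : Quad (fun i => f (y i)) 80 92)
    (h4 : ∀ a b c : S, (a = y 1 ∨ a = (y 1)⁻¹) → (b = y 2 ∨ b = (y 2)⁻¹) → (c = y 3 ∨ c = (y 3)⁻¹) →
      cf (f (y 0 * a * b * c)) = 80)
    {g : S} (g0 : g * y 0 * g⁻¹ = (y 0)⁻¹) (g1 : g * y 1 * g⁻¹ = (y 1)⁻¹) (g2 : g * y 2 * g⁻¹ = y 2) :
    3 ^ 8 ∣ Nat.card (MulAut S) := by
  have e : ∀ a b : S, g * a * g⁻¹ = b → f g * f a * (f g)⁻¹ = f b := fun a b k => by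
    rw [← map_inv, ← map_mul, ← map_mul, k]
  obtain ⟨ζ, z, hζ, h1, -⟩ := frame1 h.trip (g := f g)
    (Or.inr ⟨(e _ _ g0).trans (map_inv f _), (e _ _ g1).trans (map_inv f _), e _ _ g2⟩)
  have e12 : vc 2485 = vc 4401 + vc 4645 := by decide +kernel
  have e13 : vc 4673 = vc 4401 + vc 272 := by decide +kernel
  have b0 : One (f (y 0)) (vc 4401) ζ z := h1 0
  have b1 : One (f (y 0) * f (y 1)) (vc 2485) ζ z := by rw [e12]; exact One.mul hζ b0 (h1 1)
  have b2 : One (f (y 0) * f (y 2)) (vc 4673) ζ z := by rw [e13]; exact One.mul hζ b0 (h1 2)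
  obtain ⟨u, z1, h2, h3⟩ := (tup3 b0 b1 b2).step hζ (fun i => by fin_cases i; exacts [sm2485, sm4673]) (h.cube 3)
    fun i => by
      fin_cases i
      exacts [h.comm 3 0, (h.comm 3 0).mul_right (h.comm 3 1), (h.comm 3 0).mul_right (h.comm 3 2)]
  obtain ⟨x, hx, rfl⟩ := vc_surj u
  have a0 : One (f (y 0)) (vc 4401) ζ z1 := (un3 h2).1
  have a1 : One (f (y 1)) (vc 4645) ζ z1 := One.cancel hζ a0 (by rw [← e12]; exact (un3 h2).2.1)
  have a2 : One (f (y 2)) (vc 272) ζ z1 := One.cancel hζ a0 (by rw [← e13]; exact (un3 h2).2.2)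
  have key : ∀ (a b : S) (p : ℕ), (a = y 1 ∨ a = (y 1)⁻¹) → (b = y 2 ∨ b = (y 2)⁻¹) →
      One (f (y 0) * f a * f b) (vc p) ζ z1 → cp 80 p x = true := fun a b p ha hb k => by
    refine cp_of hζ k h3 ?_ ?_
    · rw [← map_mul, ← map_mul, ← map_mul]; exact h4 a b _ ha hb (Or.inl rfl)
    · rw [← map_inv, ← map_mul, ← map_mul, ← map_mul]; exact h4 a b _ ha hb (Or.inr rfl)
  have p1 := key _ _ 2673 (Or.inl rfl) (Or.inl rfl) (by
    rw [show vc 2673 = vc 4401 + vc 4645 + vc 272 by decide +kernel]; exact (a0.mul hζ a1).mul hζ a2)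
  have p2 := key _ _ 2216 (Or.inl rfl) (Or.inr rfl) (by
    rw [show vc 2216 = vc 4401 + vc 4645 + -vc 272 by decide +kernel, map_inv]; exact (a0.mul hζ a1).mul hζ (a2.inv hζ))
  have p3 := key _ _ 28 (Or.inr rfl) (Or.inl rfl) (by
    rw [show vc 28 = vc 4401 + -vc 4645 + vc 272 by decide +kernel, map_inv]; exact (a0.mul hζ (a1.inv hζ)).mul hζ a2)
  have p4 := key _ _ 297 (Or.inr rfl) (Or.inr rfl) (by
    rw [show vc 297 = vc 4401 + -vc 4645 + -vc 272 by decide +kernel, map_inv, map_inv]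
    exact (a0.mul hζ (a1.inv hζ)).mul hζ (a2.inv hζ))
  have h5 := allN_spec chk8b x hx
  rw [← cf_tc hζ hx h3, h.one, cp_of hζ a0 h3 (h.mul 0 3 (by decide)) (h.div 0 3 (by decide)),
    cp_of hζ a1 h3 (h.mul 1 3 (by decide)) (h.div 1 3 (by decide)),
    cp_of hζ a2 h3 (h.mul 2 3 (by decide)) (h.div 2 3 (by decide)), p1, p2, p3, p4] at h5
  simp only [Nat.beq_refl, Bool.and_self, Bool.not_true, Bool.false_or, Bool.and_eq_true, Bool.not_eq_true',
    ← Bool.not_eq_true, Nat.beq_eq] at h5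
  have c1 : One (f (y 0) * f (y 1)) (vc 2485) ζ z1 := (un3 h2).2.1
  have c2 : One (f (y 0) * f (y 2)) (vc 4673) ζ z1 := (un3 h2).2.2
  have c3 : One (f (y 0) * f (y 3)) (vc (ad 4401 x)) ζ z1 := by rw [vc_ad]; exact a0.mul hζ h3
  obtain ⟨z', h6, h7⟩ := (tup4 a0 c1 c2 c3).frame hζ fun i => by
    fin_cases i
    exacts [sm2485, sm4673, sm_of_cf hζ c3 (Or.inl (h.mul 0 3 (by decide)))]
  have d0 : One (f (y 0)) (vc 4401) ζ z' := h6 0
  have d1 : One (f (y 1)) (vc 4645) ζ z' := One.cancel hζ d0 (by rw [← e12]; exact h6 1)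
  have d2 : One (f (y 2)) (vc 272) ζ z' := One.cancel hζ d0 (by rw [← e13]; exact h6 2)
  have d3 : One (f (y 3)) (vc x) ζ z' := One.cancel hζ d0 (by rw [← vc_ad]; exact h6 3)
  refine t8_core hS hfx hζ h7 fun r hr => ?_
  by_cases k : ∀ i, dz (vc (cC i)) (vec chevE8 8 r) = 0
  · have k1 := dt_ne (r := 121) (by decide +kernel) (by norm_num) h5.1.1.1
    have k2 := dt_ne (r := 126) (by decide +kernel) (by norm_num) h5.1.1.2
    have k3 := dt_ne (r := 141) (by decide +kernel) (by norm_num) h5.1.2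
    have k4 := dt_ne (r := 135) (by decide +kernel) (by norm_num) h5.2
    refine ⟨y 3, vc x, d3, ?_⟩
    have k5 := LB_cC r hr k
    simp only [LB, List.mem_cons, List.not_mem_nil, or_false] at k5
    rcases k5 with rfl | rfl | rfl | rfl | rfl | rfl | rfl | rfl
    exacts [k1.1, k1.2, k2.1, k2.2, k3.1, k3.2, k4.1, k4.2]
  · obtain ⟨i, hi⟩ := not_forall.1 k
    fin_cases i
    exacts [⟨y 0, _, d0, hi⟩, ⟨y 1, _, d1, hi⟩, ⟨y 2, _, d2, hi⟩]

end Cfsg.Agent.E82.Fr
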