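import Cfsg.Agent.E82.Fr.Cen

/-!
# S3369: LEMMA A8 (helper39)

`c₀ c₁ c₂` commuting of order three and type 80, products of type 92, `r_i` involutions inverting `c_i` and centralising
the other two.  The vector `h_{b₁} + ⋯ + h_{b₄}` is the projection of the logarithm of `r_i` to the fixed space of `c_i`.
-/

set_option autoImplicit false
set_option linter.unusedSectionVars false
set_option maxRecDepth 100000

namespace Cfsg.Agent.E82.Fr

open Cfsg Cfsg.Lie Cfsg.Lie.ChevalleyDatum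
open Cfsg.Agent.ChevalleyStructure.CoxeterGeomTypes
open Cfsg.Agent.ChevalleyStructure.Columns (car cor)
open Cfsg.Agent.Tits.Roots Cfsg.Agent.Nodes.BNOf Cfsg.Agent.Nodes.RGDChev
open Cfsg.Agent.H129.TorusChar (cX cX_pow cX_one cX_inj cX_mul)
open Cfsg.Agent.BpExc.RowsUntw (e8T)
open Cfsg.Agent.KFacts.RgdChevCoord (TT)
open Cfsg.Agent.H939.L64 (KK E2 LK em aK rE fr brK rE_apply)
open Cfsg.Agent.H413.L64 (pow_val)
open Cfsg.Agent.H413.L16
open Cfsg.Agent.H876.L64 (two_zero aK_mul aK_one aK_inv aK_inv' aK_add aK_smul aK_zero aK_brK)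
open Cfsg.Agent.H259.L34 (dz)
open Cfsg.Agent.H201.L34 (gw)
open Cfsg.Agent.H942.L16 (BF BF_aK BF_symm BF_eq_zero BF_er_er BF_hv_er BF_hr_hr ipr lk_ind kadd_self ladd_self)

attribute [local instance] Cfsg.Agent.H413.L64.charKK

variable {ζ : KK}

theorem Tv.mul {N : ℕ} [NeZero N] (hζ : IsPrimitiveRoot ζ N) {a b : GK} {u v : Fin 8 → ZMod N} (ha : Tv a u ζ)
    (hb : Tv b v ζ) : Tv (a * b) (u + v) ζ := by
  refine ⟨mul_mem ha.1 hb.1, fun j => ?_⟩
  rw [cX_mul e8T ha.1 hb.1, ha.2, hb.2, ← pow_add, pow_val hζ, Pi.add_apply]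
  congr 2
  push_cast
  rw [ZMod.natCast_zmod_val, ZMod.natCast_zmod_val]

theorem Tv.inv {N : ℕ} [NeZero N] (hζ : IsPrimitiveRoot ζ N) {a : GK} {u : Fin 8 → ZMod N} (ha : Tv a u ζ) :
    Tv a⁻¹ (-u) ζ := by
  refine ⟨inv_mem ha.1, fun j => ?_⟩
  have h1 := cX_mul e8T (inv_mem ha.1) ha.1 (sr j)
  rw [inv_mul_cancel, cX_one, ha.2] at h1
  have h2 : ζ ^ ((-u) j).val * ζ ^ (u j).val = 1 := by
    rw [← pow_add, pow_val hζ, Pi.neg_apply]
    push_cast
    rw [ZMod.natCast_zmod_val, ZMod.natCast_zmod_val, neg_add_cancel, ZMod.val_zero, pow_zero]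
  exact mul_right_cancel₀ (pow_ne_zero _ (hζ.ne_zero (NeZero.ne N))) (h1.symm.trans h2.symm)

theorem Tv.cube (hζ : IsPrimitiveRoot ζ 3) {a : GK} {u : Fin 8 → ZMod 3} (ha : Tv a u ζ) : a ^ 3 = 1 :=
  cX_inj e8T (pow_mem ha.1 3) (one_mem _) fun j => by
    rw [cX_pow e8T ha.1, ha.2, ← pow_mul, mul_comm, pow_mul, hζ.pow_eq_one, one_pow, cX_one]

theorem tt_comm {a b : GK} (ha : a ∈ TT chevE8 KK) (hb : b ∈ TT chevE8 KK) : a * b = b * a :=
  Cfsg.Agent.BpExc.TorChev.TT_comm e8T a ha b hb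

theorem wl_add (l : List ℕ) (u v : Fin 8 → ZMod 3) : wl l (u + v) = wl l u + wl l v :=
  funext fun _ => dz_add_left _ _ _

theorem LB_cC : ∀ r < 240, (∀ i, dz (vc (cC i)) (vec chevE8 8 r) = 0) → r ∈ LB := by decide +kernel

/-- **the normaliser in the first frame** -/
theorem norm1F (hζ : IsPrimitiveRoot ζ 3) {t : Fin 3 → GK} (ht : ∀ i, Tv (t i) (vc (cC i)) ζ) {g : GK}
    {V' : Fin 3 → Fin 8 → ZMod 3} (hg : ∀ i, Tv (g * t i * g⁻¹) (V' i) ζ) {l : List ℕ} (hl : okL l = true)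
    (hw : ∀ i, wl l (V' i) = vc (cC i)) : ∃ m ∈ KB LB, ∃ s ∈ TT chevE8 KK, g = gw l * m * s := by
  have e : ∀ a b : GK, g * (a * b) * g⁻¹ = g * a * g⁻¹ * (g * b * g⁻¹) := fun a b => by group
  refine norm_gen hζ (t := ![t 0, t 0 * t 1, t 0 * t 2]) (V := ![vc (cC 0), vc (cC 0) + vc (cC 1), vc (cC 0) + vc (cC 2)])
    (V' := ![V' 0, V' 0 + V' 1, V' 0 + V' 2]) (fun i => ?_) (fun i => ?_) (fun r hr h => LB_cC r hr fun i => ?_)
    (fun i => ?_) hl (fun i => ?_)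
  · fin_cases i
    exacts [ht 0, (ht 0).mul hζ (ht 1), (ht 0).mul hζ (ht 2)]
  · fin_cases i
    · show Sm (vc (cC 0) + vc (cC 1))
      rw [show vc (cC 0) + vc (cC 1) = vc 2485 by decide +kernel]
      exact sm2485
    · show Sm (vc (cC 0) + vc (cC 2))
      rw [show vc (cC 0) + vc (cC 2) = vc 4673 by decide +kernel]
      exact sm4673
  · have h0 : dz (vc (cC 0)) (vec chevE8 8 r) = 0 := h 0
    have h1 : dz (vc (cC 0) + vc (cC 1)) (vec chevE8 8 r) = 0 := h 1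
    have h2 : dz (vc (cC 0) + vc (cC 2)) (vec chevE8 8 r) = 0 := h 2
    rw [dz_add_left, h0, zero_add] at h1 h2
    fin_cases i
    exacts [h0, h1, h2]
  · fin_cases i
    · exact hg 0
    · show Tv (g * (t 0 * t 1) * g⁻¹) (V' 0 + V' 1) ζ
      rw [e]
      exact (hg 0).mul hζ (hg 1)
    · show Tv (g * (t 0 * t 2) * g⁻¹) (V' 0 + V' 2) ζ
      rw [e]
      exact (hg 0).mul hζ (hg 2)
  · fin_cases i
    · exact hw 0
    · show wl l (V' 0 + V' 1) = vc (cC 0) + vc (cC 1)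
      rw [wl_add, hw, hw]
    · show wl l (V' 0 + V' 2) = vc (cC 0) + vc (cC 2)
      rw [wl_add, hw, hw]

theorem inLB : ∀ j, InL LB (ipj j) := by decide +kernel

/-- the roots dual to the `b_j` modulo two -/
def gam : Fin 4 → ℕ := ![238, 236, 225, 219]

theorem gam_lt : ∀ j, gam j < 240 := by decide

theorem gam_LB : ∀ j, ∀ r ∈ LB, r = ipj j ∨ r = 239 - ipj j ∨ ipr (gam j) r % 2 = 0 := by decide +kernel

theorem LB_ipj : ∀ r ∈ LB, ∃ j, r = ipj j ∨ r = 239 - ipj j := by decide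

theorem cC_ipj : ∀ i j, dz (vc (cC i)) (vec chevE8 8 (ipj j)) = 0 ∧ dz (vc (cC i)) (vec chevE8 8 (239 - ipj j)) = 0 := by
  decide +kernel

/-- the action of `gw l * m * s` on the `sl₂` -/
theorem nm_Dr {l : List ℕ} (hl : okL l = true) {m s : GK} (hm : m ∈ KB LB) (hs : s ∈ TT chevE8 KK) (j : Fin 4) {v : LK}
    (hv' : v ∈ Dr (ipj j)) : aK (gw l * m * s) v ∈ Dr (l.foldr rf (ipj j)) := by
  rw [aK_mul, aK_mul]
  exact gw_Dr hl (ipj_lt j) ((inLB j).Dr hm _ (tor_Dr hs (ipj_lt j) hv'))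

theorem nm_hr {l : List ℕ} (hl : okL l = true) {m s : GK} (hm : m ∈ KB LB) (hs : s ∈ TT chevE8 KK) (j : Fin 4) :
    aK (gw l * m * s) (hr (ipj j)) = hr (l.foldr rf (ipj j)) := by
  rw [aK_mul, aK_mul, aK_t_hr hs, (inLB j).hr hm, gw_hr hl (ipj_lt j)]

theorem nm_gam {l : List ℕ} (hl : okL l = true) {m s : GK} (hm : m ∈ KB LB) (hs : s ∈ TT chevE8 KK) (j : Fin 4) :
    ∃ d ∈ Dr (l.foldr rf (ipj j)), aK (gw l * m * s) (hr (gam j)) = hr (l.foldr rf (gam j)) + d := by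
  obtain ⟨d, hd, e⟩ := (inLB j).hv (c := fun i => ((cor chevE8 (gam j) i : ℤ) : KK)) (fun r hr' => by
    rcases gam_LB j r hr' with h | h | h
    · exact Or.inl h
    · exact Or.inr (Or.inl h)
    · exact Or.inr (Or.inr ((BF_hr_hr _ _).trans (cast_even h)))) hm
  refine ⟨aK (gw l) d, gw_Dr hl (ipj_lt j) hd, ?_⟩
  have e' : aK m (hr (gam j)) = hr (gam j) + d := e
  rw [aK_mul, aK_mul, aK_t_hr hs, e', aK_add, gw_hr hl (gam_lt j)]

/-- the vector `h_{b₁} + ⋯ + h_{b₄}` -/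
noncomputable def yB : LK := hr 121 + hr 126 + hr 141 + hr 135

theorem BF_yB_hr (a : ℕ) : BF yB (hr a) = ((ipr 121 a + ipr 126 a + ipr 141 a + ipr 135 a : ℤ) : KK) := by
  unfold yB
  simp only [map_add, LinearMap.add_apply, BF_hr_hr]
  push_cast
  rfl

theorem BF_yB_er {s : ℕ} (hs : s < 240) : BF yB (er s) = 0 := by
  unfold yB
  simp only [map_add, LinearMap.add_apply, BF_hr_er _ hs, add_zero]

theorem BF_yB_gam (j : Fin 4) : BF yB (hr (gam j)) = 1 := by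
  have h : ∀ j, (ipr 121 (gam j) + ipr 126 (gam j) + ipr 141 (gam j) + ipr 135 (gam j)) % 2 ≠ 0 := by decide +kernel
  rw [BF_yB_hr, cast_odd (h j)]

theorem BF_yB_ipj (j : Fin 4) : BF yB (hr (ipj j)) = 0 := by
  have h : ∀ j, (ipr 121 (ipj j) + ipr 126 (ipj j) + ipr 141 (ipj j) + ipr 135 (ipj j)) % 2 = 0 := by decide +kernel
  rw [BF_yB_hr, cast_even (h j)]

theorem yB_ne : yB ≠ 0 := fun h => by
  have h1 := BF_yB_gam 0
  rw [h, map_zero, LinearMap.zero_apply] at h1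
  exact zero_ne_one h1

/-- the simple coroots in terms of the `h_b` and `h_γ` -/
def sixL : Fin 8 → List ℕ := ![[121, 126, 135, 219], [141], [135], [121, 236, 225, 219], [126], [121, 238, 236], [121],
  [121, 126, 141, 238]]

theorem sixL_spec : ∀ k : Fin 8, (∀ i : Fin 8, (cor chevE8 (six k) i - ((sixL k).map fun b => cor chevE8 b i).sum) % 2 = 0) ∧
    ∀ a ∈ sixL k, ∃ j, a = ipj j ∨ a = gam j := by decide +kernel

/-- a vector which is orthogonal to the root vectors, to the `h_b` and to the `h_γ` is zero -/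
theorem eq_zero_of {u : LK} (h1 : ∀ s < 240, BF u (er s) = 0) (h2 : ∀ j, BF u (hr (ipj j)) = 0)
    (h3 : ∀ j, BF u (hr (gam j)) = 0) : u = 0 := by
  refine BF_eq_zero (lk_ind (P := fun v => BF u v = 0) (map_zero _) (fun a b ha hb => by rw [map_add, ha, hb, add_zero])
    (fun c a ha => by rw [map_smul, ha, smul_zero]) h1 fun k => ?_)
  rw [hr_sum _ _ (sixL_spec k).1, map_list_sum]
  refine List.sum_eq_zero fun x hx => ?_
  rw [List.map_map] at hx
  obtain ⟨a, ha, rfl⟩ := List.mem_map.1 hx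
  obtain ⟨j, rfl | rfl⟩ := (sixL_spec k).2 a ha
  · exact h2 j
  · exact h3 j

/-- the words of the `r_i` -/
def lr : Fin 3 → List ℕ := ![[154, 156, 233, 232], [195, 204, 218, 222], [216, 220, 200, 207]]

theorem lr_ok : ∀ i, okL (lr i) = true := by decide +kernel

theorem lr_w : ∀ i j, wl (lr i) (if j = i then -vc (cC j) else vc (cC j)) = vc (cC j) := by decide +kernel

theorem lr_b : ∀ i j, (lr i).foldr rf (ipj j) < 240 ∧ ipj j ≠ (lr i).foldr rf (ipj j) ∧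
    ipj j ≠ 239 - (lr i).foldr rf (ipj j) ∧ ipr (ipj j) ((lr i).foldr rf (ipj j)) % 2 = 0 ∧
    ipr (gam j) ((lr i).foldr rf (ipj j)) % 2 = 0 ∧ ipr (gam j) ((lr i).foldr rf (gam j)) % 2 ≠ 0 := by decide +kernel

theorem fix_Dr (hζ : IsPrimitiveRoot ζ 3) {t : GK} {i : Fin 3} (ht : Tv t (vc (cC i)) ζ) (j : Fin 4) {v : LK}
    (hv' : v ∈ Dr (ipj j)) : aK t v = v :=
  Dr_fix (ipj_lt j) (ht.fix hζ (ipj_lt j) (cC_ipj i j).1) (ht.fix hζ (by have := ipj_lt j; omega) (cC_ipj i j).2) hv'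

/-- **the projection of the logarithm** -/
theorem log_y (hζ : IsPrimitiveRoot ζ 3) {t : Fin 3 → GK} (ht : ∀ j, Tv (t j) (vc (cC j)) ζ) (i : Fin 3) {r : GK}
    (hinv : r * t i * r⁻¹ = (t i)⁻¹) (hcom : ∀ j, j ≠ i → r * t j = t j * r) {c : LK} (hc : IsLog r c) :
    pr3 (t i) c = yB := by
  obtain ⟨m, hm, s, hs, e⟩ := norm1F hζ ht (g := r) (V' := fun j => if j = i then -vc (cC j) else vc (cC j))
    (fun j => by
      by_cases h : j = i
      · rw [if_pos h, h, hinv]; exact (ht i).inv hζ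
      · rw [if_neg h, hcom j h, mul_inv_cancel_right]; exact ht j) (lr_ok i) (lr_w i)
  have hfix : ∀ j, aK (t j) (pr3 (t i) c) = pr3 (t i) c := fun j => by
    by_cases h : j = i
    · rw [h]; exact pr3_fix ((ht i).cube hζ) c
    · have h1 : t j * t i * (t j)⁻¹ = t i := by
        rw [tt_comm (ht j).1 (ht i).1, mul_inv_cancel_right]
      rw [pr3_conj, h1, hc.comm (hcom j h).symm]
  have hD : ∀ j, ∀ v ∈ Dr (ipj j), BF (pr3 (t i) c) v = 0 := fun j v hv' => by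
    obtain ⟨b1, b2, b3, b4, -⟩ := lr_b i j
    have h1 := hc v
    rw [e, BF_Dr_Dr (ipj_lt j) b1 b2 b3 b4 hv' (nm_Dr (lr_ok i) hm hs j hv')] at h1
    rw [BF_pr3 c (fix_Dr hζ (ht i) j hv')]
    exact pow_eq_zero_iff two_ne_zero |>.1 h1
  rw [← sub_eq_zero]
  refine eq_zero_of (fun u hu => ?_) (fun j => ?_) fun j => ?_
  · rw [map_sub, LinearMap.sub_apply, BF_yB_er hu, sub_zero]
    by_cases h : ∀ j, dz (vc (cC j)) (vec chevE8 8 u) = 0
    · obtain ⟨j, rfl | rfl⟩ := LB_ipj u (LB_cC u hu h)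
      · exact hD j _ (er_Dr _)
      · exact hD j _ (en_Dr _)
    · obtain ⟨j, hj⟩ := not_forall.1 h
      exact (ht j).orth hζ (hfix j) hu hj
  · rw [map_sub, LinearMap.sub_apply, BF_yB_ipj, sub_zero]
    exact hD j _ (hr_Dr _)
  · obtain ⟨b1, -, -, -, b5, b6⟩ := lr_b i j
    obtain ⟨d, hd, e1⟩ := nm_gam (lr_ok i) hm hs j
    have h1 := hc (hr (gam j))
    rw [e, e1, map_add, BF_hr_hr, cast_odd b6,
      show BF (hr (gam j)) d = 0 from BF_hv_Dr b1 ((BF_hr_hr _ _).trans (cast_even b5)) hd, add_zero] at h1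
    rw [map_sub, LinearMap.sub_apply, BF_yB_gam, BF_pr3 c (aK_t_hr (ht i).1 _), sq_inj (h1.trans (one_pow 2).symm), sub_self]

/-- **LEMMA A8** -/
theorem lemmaA8 {c : Fin 3 → E2} (h : Trip c 80 92) {r : Fin 3 → E2} (hr2 : ∀ i, r i * r i = 1)
    (hinv : ∀ i, r i * c i * (r i)⁻¹ = (c i)⁻¹) (hcom : ∀ i j, j ≠ i → Commute (r i) (c j)) :
    ∃ y : LK, y ≠ 0 ∧ (∀ i, rE (c i) y = y) ∧
      ∀ i g, Commute g (r i) → (g * c i * g⁻¹ = c i ∨ g * c i * g⁻¹ = (c i)⁻¹) → rE g y = y := by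
  obtain ⟨ζ, z, hζ, h1, -⟩ := frame1 h (g := r 2) (Or.inl ⟨by rw [(hcom 2 0 (by decide)).eq, mul_inv_cancel_right],
    by rw [(hcom 2 1 (by decide)).eq, mul_inv_cancel_right], hinv 2⟩)
  have ht : ∀ j, Tv (cj z (c j)) (vc (cC j)) ζ := fun j => One.tv (h1 j)
  refine ⟨aK z yB, fun h0 => yB_ne (by rw [← aK_inv' z yB, h0, aK_zero]), fun i => ?_, fun i g hg hn => ?_⟩
  · rw [rE_cj]
    unfold yB
    rw [aK_add (cj z (c i)), aK_add (cj z (c i)), aK_add (cj z (c i)), aK_t_hr (ht i).1, aK_t_hr (ht i).1,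
      aK_t_hr (ht i).1, aK_t_hr (ht i).1]
  · obtain ⟨l, hl⟩ := exists_log (r := cj z (r i)) (by rw [← map_mul, hr2, map_one])
    have h2 := log_y hζ ht i (r := cj z (r i)) (by rw [← map_inv, ← map_mul, ← map_mul, hinv, map_inv])
      (fun j hj => by rw [← map_mul, ← map_mul, (hcom i j hj).eq]) hl
    rw [rE_cj, ← h2, pr3_conj, hl.comm (by rw [← map_mul, ← map_mul, hg.eq]), ← map_inv, ← map_mul, ← map_mul]
    rcases hn with h3 | h3
    · rw [h3]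
    · rw [h3, map_inv, pr3_inv ((ht i).cube hζ)]

end Cfsg.Agent.E82.Fr
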