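import Cfsg.Agent.E82.Fr.Frm
import Cfsg.Agent.H413.L16.Slt
import Cfsg.Agent.H942.L16.Log
import Cfsg.Agent.H977.L16.Desc
import Cfsg.Agent.H201.L34.Form

/-!
# S3369: centralisers and normalisers of families of torus elements (helper39)

* `Tv t v ζ` : the torus element with the values `v`; `cj z` : an element of `E₈(2)` in the frame `z`;
* `KB L` : the group generated by the root groups of the list `L`; `cent_gen`, `norm_gen` : `g = gw l * m * s`;
* `Dr b` : the algebra `sl₂` of the root `b`, the action of `KB` on `Dr b` and on the Cartan subalgebra;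
* `IsLog r c` : the logarithm of an involution.
-/

set_option autoImplicit false
set_option linter.unusedSectionVars false
set_option maxRecDepth 100000

namespace Cfsg.Agent.E82.Fr

open CoxeterSystem Cfsg Cfsg.Lie Cfsg.Lie.ChevalleyDatum
open Cfsg.Agent.ChevalleyStructure Cfsg.Agent.ChevalleyStructure.Elts Cfsg.Agent.ChevalleyStructure.CoxeterGeom
  Cfsg.Agent.ChevalleyStructure.CoxeterGeomTypes Cfsg.Agent.ChevalleyStructure.NPerm
open Cfsg.Agent.ChevalleyStructure.SL2Hom (up lo)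
open Cfsg.Agent.ChevalleyStructure.Columns (car cor)
open Cfsg.Agent.Tits.Roots Cfsg.Agent.Tits.Core Cfsg.Agent.Nodes Cfsg.Agent.Nodes.Reps Cfsg.Agent.Nodes.BNOf
  Cfsg.Agent.Nodes.RGDChev Cfsg.Agent.Nodes.Bruhat Cfsg.Agent.Nodes.SubComb Cfsg.Agent.Nodes.Coroot
open Cfsg.Agent.KFacts.RgdField Cfsg.Agent.KFacts.RgdChevCoord Cfsg.Agent.BpExc.TorCent Cfsg.Agent.BpExc.TorChev
open Cfsg.Agent.H129.TorusChar (cX cX_pow cX_one cX_inj isMC_cX cX_root cX_rp cX_mul)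
open Cfsg.Agent.H795.SetCent
open Cfsg.Agent.H897.T5Frame (bc rc bf_eq)
open Cfsg.Agent.H897.T5UntwRow (A8)
open Cfsg.Agent.BpExc.RowsUntw (e8T)
open Cfsg.Agent.BpExc.FamUntw (phi)
open Cfsg.Agent.H939.L64 (KK E2 LK em aK rE fr brK rE_apply)
open Cfsg.Agent.H413.L64 (charKK locKK nsysKK pow_inj_val)
open Cfsg.Agent.H413.L16
open Cfsg.Agent.H876.L64 (two_zero aK_mul aK_one aK_inv aK_inv' aK_add aK_smul aK_zero aK_brK aK_tor)
open Cfsg.Agent.H259.L34 (dz)
open Cfsg.Agent.H5.L34 (ConZ cent_formZ)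
open Cfsg.Agent.H201.L34 (gz gw aK_gw good_gw)
open Cfsg.Agent.H942.L16 (BF BF_aK BF_symm BF_eq_zero BF_er_er BF_hv_er BF_hr_hr BF_br BF_skew ipr lk_ind bal bar bsl bsr
  bzl bzr kadd_self ladd_self)

attribute [local instance] Cfsg.Agent.H413.L64.charKK

/-! ### torus elements -/

section Gen

variable {N : ℕ} [NeZero N] {ζ : KK}

/-- the torus element with given values -/
def Tv (t : GK) (v : Fin 8 → ZMod N) (ζ : KK) : Prop := t ∈ TT chevE8 KK ∧ ∀ j, cX e8T t (sr j) = ζ ^ (v j).val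

/-- an element in a frame -/
noncomputable def cj (z : GK) : E2 →* GK := (MulAut.conj z⁻¹).toMonoidHom.comp em

theorem cj_apply (z : GK) (g : E2) : cj z g = z⁻¹ * em g * z := by
  show z⁻¹ * em g * z⁻¹⁻¹ = _
  rw [inv_inv]

theorem One.tv {y : E2} {v : Fin 8 → ZMod N} {z : GK} (h : One y v ζ z) : Tv (cj z y) v ζ := by
  rw [cj_apply]
  exact h

theorem rE_cj (z : GK) (g : E2) (v : LK) : rE g (aK z v) = aK z (aK (cj z g) v) := by
  rw [rE_apply, cj_apply, ← aK_mul, ← aK_mul]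
  congr 1
  group

theorem aK_tor_er {t : GK} (ht : t ∈ TT chevE8 KK) {s : ℕ} (hs : s < 240) :
    aK t (er s) = cX e8T t (vec chevE8 8 s) • er s := by
  have hs' : s < chevE8.nroots := by rw [nr]; exact hs
  funext i
  rw [aK_tor ht, Pi.smul_apply, smul_eq_mul, er_of hs']
  by_cases h : i = Sum.inr ⟨s, hs'⟩
  · rw [h, Pi.single_eq_same, mul_one, mul_one]
    rfl
  · rw [Pi.single_eq_of_ne h, mul_zero, mul_zero]

theorem Tv.er (hζ : IsPrimitiveRoot ζ N) {t : GK} {v : Fin 8 → ZMod N} (h : Tv t v ζ) {s : ℕ} (hs : s < 240) :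
    aK t (er s) = ζ ^ (dz v (vec chevE8 8 s)).val • er s := by
  rw [aK_tor_er h.1 hs, cX_dz hζ h.1 h.2]

theorem Tv.ext {t t' : GK} {v : Fin 8 → ZMod N} (h : Tv t v ζ) (h' : Tv t' v ζ) : t = t' :=
  cX_inj e8T h.1 h'.1 fun j => by rw [h.2, h'.2]

theorem Tv.rp (hζ : IsPrimitiveRoot ζ N) {t : GK} {u : Fin 8 → ZMod N} (ha : Tv t u ζ) {w : W8} {n : GK}
    (hn : Rp cs8 nsysKK w n) : Tv (n⁻¹ * t * n) (wa w u) ζ := by
  have e : n⁻¹ * t * n = n⁻¹ * t * n⁻¹⁻¹ := by group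
  refine ⟨by rw [e]; exact (Subgroup.mem_normalizer_iff.1 hn.inv.mem_normalizer _).1 ha.1, fun j => ?_⟩
  have h1 := cX_rp e8T cs8 locKK 2 hn.inv ha.1 (act w (sr j))
  rw [rep_inv_apply] at h1
  rw [e, h1, cX_dz hζ ha.1 ha.2]
  rfl

end Gen

/-! ### the groups generated by root groups -/

/-- the group generated by the root groups of a list -/
noncomputable def KB (L : List ℕ) : Subgroup GK := Subgroup.closure {g | ∃ r ∈ L, ∃ a, g = xr r a}

theorem xr_mem_KB {L : List ℕ} {r : ℕ} (h : r ∈ L) (a : KK) : xr r a ∈ KB L := Subgroup.subset_closure ⟨r, h, a, rfl⟩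

theorem xr_inv {r : ℕ} (h : r < 240) (a : KK) : (xr r a)⁻¹ = xr r a := by
  rw [inv_eq_iff_mul_eq_one, xr_add h, kadd_self, xr_zero h]

theorem KB_ind {L : List ℕ} (hL : ∀ r ∈ L, r < 240) {P : GK → Prop} (h1 : P 1)
    (hm : ∀ r ∈ L, ∀ a g, P g → P (xr r a * g)) {g : GK} (hg : g ∈ KB L) : P g := by
  induction hg using Subgroup.closure_induction_left with
  | one => exact h1
  | mul_left x hx y _ hy =>
    obtain ⟨r, hr, a, rfl⟩ := hx
    exact hm r hr a y hy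
  | inv_mul_cancel x hx y _ hy =>
    obtain ⟨r, hr, a, rfl⟩ := hx
    rw [xr_inv (hL r hr)]
    exact hm r hr a y hy

variable {ζ : KK}

/-- **the centraliser** -/
theorem cent_gen (hζ : IsPrimitiveRoot ζ 3) {n : ℕ} {t : Fin (n + 1) → GK} {V : Fin (n + 1) → Fin 8 → ZMod 3}
    (ht : ∀ i, Tv (t i) (V i) ζ) (hs : ∀ i : Fin n, Sm (V i.succ)) {L : List ℕ}
    (hL : ∀ r < 240, (∀ i, dz (V i) (vec chevE8 8 r) = 0) → r ∈ L) {c : GK} (hc : ∀ i, c * t i = t i * c) :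
    ∃ m ∈ KB L, ∃ s ∈ TT chevE8 KK, c = m * s := by
  obtain ⟨m, hm, s, hs', rfl⟩ := cent_formZ e8T cs8 locKK 2 (Set.finite_range t)
    (by rintro _ ⟨i, rfl⟩; exact (ht i).1) (conZ hζ (fun i => (ht i).1) (fun i => (ht i).2) hs)
    (c := c) (by rintro _ ⟨i, rfl⟩; exact hc i)
  refine ⟨m, (?_ : MMZ cs8 e8T.isCartan (XX chevE8 8 KK) (ch e8T) (Set.range t) ≤ KB L) hm, s, hs', rfl⟩
  refine RGD.Sup_le fun a ha => ?_
  obtain ⟨r, hr, rfl⟩ := (isRoot_iff e8T cs8 a).1 ha.1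
  have h3 : r ∈ L := hL r (by rw [← nr]; exact hr) fun i => by
    have h2 := ha.2 (t i) ⟨i, rfl⟩
    rw [← cX_root e8T cs8 (ht i).1 ha.1, cX_dz hζ (ht i).1 (ht i).2] at h2
    have h4 := (hζ.pow_eq_one_iff_dvd _).1 h2
    exact (ZMod.val_eq_zero _).1 (Nat.eq_zero_of_dvd_of_lt h4 (ZMod.val_lt _))
  intro y hy
  obtain ⟨c, rfl⟩ := ((coords8 _ ha.1).mem y).1 hy
  exact xr_mem_KB h3 c

/-- the word `l` is fine -/
def okL (l : List ℕ) : Bool := l.all fun r => decide (r < 240) && okN r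

theorem okL_spec {l : List ℕ} (h : okL l = true) : ∀ r ∈ l, r < 240 ∧ okN r = true := Cfsg.Agent.H201.L34.ok_of h

/-- the action of the word `l` on the values -/
def wl (l : List ℕ) (v : Fin 8 → ZMod 3) : Fin 8 → ZMod 3 :=
  fun j => dz v ((l.map fun r => vec chevE8 8 r).foldr (rc A8) (sr j))

/-- **the normaliser** -/
theorem norm_gen (hζ : IsPrimitiveRoot ζ 3) {n : ℕ} {t : Fin (n + 1) → GK} {V V' : Fin (n + 1) → Fin 8 → ZMod 3}
    (ht : ∀ i, Tv (t i) (V i) ζ) (hs : ∀ i : Fin n, Sm (V i.succ)) {L : List ℕ}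
    (hL : ∀ r < 240, (∀ i, dz (V i) (vec chevE8 8 r) = 0) → r ∈ L) {g : GK} (hg : ∀ i, Tv (g * t i * g⁻¹) (V' i) ζ)
    {l : List ℕ} (hl : okL l = true) (hw : ∀ i, wl l (V' i) = V i) :
    ∃ m ∈ KB L, ∃ s ∈ TT chevE8 KK, g = gw l * m * s := by
  obtain ⟨w, h1, h2⟩ := good_gw l fun r hr => (okL_spec hl r hr).1
  obtain ⟨m, hm, s, hs', e⟩ := cent_gen hζ ht hs hL (c := (gw l)⁻¹ * g) fun i => by
    have h3 := (hg i).rp hζ h1.rp
    have h4 : wa w (V' i) = V i := by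
      rw [← hw i]
      funext j
      show dz (V' i) (act w (sr j)) = _
      rw [h2]
      rfl
    rw [h4] at h3
    have h5 := h3.ext (ht i)
    calc (gw l)⁻¹ * g * t i = ((gw l)⁻¹ * (g * t i * g⁻¹) * gw l) * ((gw l)⁻¹ * g) := by group
      _ = _ := by rw [h5]
  refine ⟨m, hm, s, hs', ?_⟩
  rw [mul_assoc, ← e]
  group

/-- the roots `± b_i` -/
def LB : List ℕ := [121, 118, 126, 113, 141, 98, 135, 104]

theorem KB_le_Psi : KB LB ≤ Psi.range := by
  refine (Subgroup.closure_le _).2 ?_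
  rintro _ ⟨r, hr, a, rfl⟩
  have h : ∀ r ∈ LB, ∃ j : Fin 4, r = ipj j ∨ r = 239 - ipj j := by decide
  obtain ⟨j, rfl | rfl⟩ := h r hr
  · exact ⟨Pi.mulSingle j (up a), by rw [Psi_single, Ph_up, xr, vec_ipj]⟩
  · exact ⟨Pi.mulSingle j (lo a), by rw [Psi_single, Ph_lo, xr, vec_neg8 (ipj_lt j), vec_ipj]⟩

theorem Psi_form {m s : GK} (hm : m ∈ KB LB) (hs : s ∈ TT chevE8 KK) : ∃ B : Fin 4 → S2, ∃ z ∈ Zt, m * s = Psi B * z := by
  obtain ⟨B, rfl⟩ := KB_le_Psi hm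
  obtain ⟨D, z, hz, rfl⟩ := tor_decomp hs
  exact ⟨B * D, z, hz, by rw [map_mul, mul_assoc]⟩

theorem LB_cA : ∀ r < 240, (∀ i, dz (vc (cA i)) (vec chevE8 8 r) = 0) → r ∈ LB := by decide +kernel

/-- **the normaliser of the four elements of type 134** -/
theorem norm3 (hζ : IsPrimitiveRoot ζ 3) {t : Fin 4 → GK} (ht : ∀ i, Tv (t i) (vc (cA i)) ζ) {g : GK}
    {V' : Fin 4 → Fin 8 → ZMod 3} (hg : ∀ i, Tv (g * t i * g⁻¹) (V' i) ζ) {l : List ℕ} (hl : okL l = true)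
    (hw : ∀ i, wl l (V' i) = vc (cA i)) : ∃ B : Fin 4 → S2, ∃ z ∈ Zt, g = gw l * (Psi B * z) := by
  obtain ⟨m, hm, s, hs, rfl⟩ := norm_gen hζ ht (fun i => by fin_cases i; exacts [sm4619, sm4375, sm2187]) LB_cA hg hl hw
  obtain ⟨B, z, hz, e⟩ := Psi_form hm hs
  exact ⟨B, z, hz, by rw [mul_assoc, e]⟩

/-! ### the action of a word -/

theorem gw_lt {l : List ℕ} (hl : okL l = true) {s : ℕ} (hs : s < 240) : l.foldr rf s < 240 := (aK_gw l (okL_spec hl) hs).2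

theorem gw_er {l : List ℕ} (hl : okL l = true) {s : ℕ} (hs : s < 240) : aK (gw l) (er s) = er (l.foldr rf s) :=
  (aK_gw l (okL_spec hl) hs).1

theorem gw_neg {l : List ℕ} (hl : okL l = true) {s : ℕ} (hs : s < 240) : l.foldr rf (239 - s) = 239 - l.foldr rf s := by
  have h' : 239 - s < 240 := by omega
  have h1 := BF_aK (gw l) (er s) (er (239 - s))
  rw [gw_er hl hs, gw_er hl h', BF_er_er (gw_lt hl hs) (gw_lt hl h'), BF_er_er hs h', if_pos rfl] at h1
  by_contra h2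
  rw [if_neg h2] at h1
  exact zero_ne_one h1

theorem gw_hr {l : List ℕ} (hl : okL l = true) {s : ℕ} (hs : s < 240) : aK (gw l) (hr s) = hr (l.foldr rf s) :=
  aK_hr hs (gw_lt hl hs) (gw_er hl hs) (by rw [gw_er hl (by omega), gw_neg hl hs])

/-! ### the algebras `sl₂` -/

theorem BF_self (v : LK) : BF v v = 0 := by
  rw [Cfsg.Agent.H942.L16.BF_apply]
  exact Cfsg.Agent.H201.L34.bf_alt v

theorem BF_er {r : ℕ} (h : r < 240) (v : LK) : BF (er r) v = v (Sum.inr ⟨239 - r, by rw [nr]; omega⟩) := by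
  rw [Cfsg.Agent.H942.L16.BF_apply]
  exact Cfsg.Agent.H201.L34.bf_er h v

theorem aK_xr' {r : ℕ} (h : r < 240) (c : KK) (v : LK) :
    aK (xr r c) v = v + c • brK (er r) v + (c ^ 2 * BF (er r) v) • er r := by
  rw [aK_xr h, BF_er h]

theorem br_hv' (c : Fin chevE8.rank → KK) {s : ℕ} (hs : s < 240) : brK (hv c) (er s) = BF (hv c) (hr s) • er s := by
  rw [← br_neg hs, ← BF_br, br_hv c hs, map_smul, LinearMap.smul_apply, BF_er_er hs (by omega), if_pos rfl, smul_eq_mul,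
    mul_one]

theorem aK_xr_hv {r : ℕ} (h : r < 240) (a : KK) (c : Fin chevE8.rank → KK) :
    aK (xr r a) (hv c) = hv c + (a * BF (hv c) (hr r)) • er r := by
  rw [aK_xr' h, br_comm, br_hv' c h, BF_symm (er r), BF_hv_er c h, mul_zero, zero_smul, add_zero, smul_smul]

theorem aK_t_hr {t : GK} (ht : t ∈ TT chevE8 KK) (s : ℕ) : aK t (hr s) = hr s := aK_t_hv ht _

theorem BF_hr_er (a : ℕ) {s : ℕ} (hs : s < 240) : BF (hr a) (er s) = 0 := BF_hv_er _ hs

theorem BF_er_hr (a : ℕ) {s : ℕ} (hs : s < 240) : BF (er s) (hr a) = 0 := by rw [BF_symm, BF_hr_er a hs]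

/-- the algebra `sl₂` of a root -/
def Dr (b : ℕ) : Submodule KK LK where
  carrier := {v | ∃ x y z : KK, v = x • er b + y • er (239 - b) + z • hr b}
  add_mem' := by
    rintro _ _ ⟨x, y, z, rfl⟩ ⟨x', y', z', rfl⟩
    exact ⟨x + x', y + y', z + z', by module⟩
  zero_mem' := ⟨0, 0, 0, by module⟩
  smul_mem' := by
    rintro c _ ⟨x, y, z, rfl⟩
    exact ⟨c * x, c * y, c * z, by module⟩

theorem mem_Dr {b : ℕ} {v : LK} : v ∈ Dr b ↔ ∃ x y z : KK, v = x • er b + y • er (239 - b) + z • hr b := Iff.rfl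

theorem er_Dr (b : ℕ) : er b ∈ Dr b := ⟨1, 0, 0, by module⟩

theorem en_Dr (b : ℕ) : er (239 - b) ∈ Dr b := ⟨0, 1, 0, by module⟩

theorem hr_Dr (b : ℕ) : hr b ∈ Dr b := ⟨0, 0, 1, by module⟩

theorem Dr_neg {b : ℕ} (h : b < 240) : Dr (239 - b) = Dr b := by
  have e : 239 - (239 - b) = b := by omega
  ext v
  rw [mem_Dr, mem_Dr, e, hr_neg h]
  exact ⟨fun ⟨x, y, z, h⟩ => ⟨y, x, z, by rw [h]; module⟩, fun ⟨x, y, z, h⟩ => ⟨y, x, z, by rw [h]; module⟩⟩

theorem Dr_map {g : GK} {b : ℕ} {A : Submodule KK LK} (h1 : aK g (er b) ∈ A) (h2 : aK g (er (239 - b)) ∈ A)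
    (h3 : aK g (hr b) ∈ A) {v : LK} (hv : v ∈ Dr b) : aK g v ∈ A := by
  obtain ⟨x, y, z, rfl⟩ := hv
  rw [aK_add, aK_add, aK_smul, aK_smul, aK_smul]
  exact A.add_mem (A.add_mem (A.smul_mem _ h1) (A.smul_mem _ h2)) (A.smul_mem _ h3)

theorem Dr_fix {g : GK} {b : ℕ} (hb : b < 240) (h1 : aK g (er b) = er b) (h2 : aK g (er (239 - b)) = er (239 - b))
    {v : LK} (hv : v ∈ Dr b) : aK g v = v := by
  obtain ⟨x, y, z, rfl⟩ := hv
  rw [aK_add, aK_add, aK_smul, aK_smul, aK_smul, h1, h2, aK_hr hb hb h1 h2]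

theorem xr_Dr {b : ℕ} (h : b < 240) (a : KK) {v : LK} (hv : v ∈ Dr b) : aK (xr b a) v ∈ Dr b := by
  refine Dr_map ?_ ?_ ?_ hv
  · rw [aK_xr_self h]; exact er_Dr b
  · rw [aK_xr_neg h]; exact ⟨a ^ 2, 1, a, by module⟩
  · rw [aK_xr_hr h]; exact hr_Dr b

theorem tor_Dr {t : GK} (ht : t ∈ TT chevE8 KK) {b : ℕ} (h : b < 240) {v : LK} (hv : v ∈ Dr b) : aK t v ∈ Dr b := by
  refine Dr_map ?_ ?_ ?_ hv
  · rw [aK_tor_er ht h]; exact Submodule.smul_mem _ _ (er_Dr b)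
  · rw [aK_tor_er ht (by omega)]; exact Submodule.smul_mem _ _ (en_Dr b)
  · rw [aK_t_hr ht]; exact hr_Dr b

theorem gw_Dr {l : List ℕ} (hl : okL l = true) {b : ℕ} (h : b < 240) {v : LK} (hv : v ∈ Dr b) :
    aK (gw l) v ∈ Dr (l.foldr rf b) := by
  refine Dr_map ?_ ?_ ?_ hv
  · rw [gw_er hl h]; exact er_Dr _
  · rw [gw_er hl (by omega), gw_neg hl h]; exact en_Dr _
  · rw [gw_hr hl h]; exact hr_Dr _

/-- orthogonal roots -/
def Ort (r b : ℕ) : Prop := r < 240 ∧ b < 240 ∧ r ≠ b ∧ r ≠ 239 - b ∧ tg r b = 240 ∧ tg r (239 - b) = 240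

instance (r b : ℕ) : Decidable (Ort r b) := by unfold Ort; infer_instance

theorem Ort.er {r b : ℕ} (h : Ort r b) (a : KK) : aK (xr r a) (er b) = er b := by
  obtain ⟨h1, h2, h3, h4, h5, -⟩ := h
  rw [aK_xr_er h1 h2 (by omega), h5, er_ge le_rfl, smul_zero, add_zero]

theorem Ort.en {r b : ℕ} (h : Ort r b) (a : KK) : aK (xr r a) (Cfsg.Agent.H413.L16.er (239 - b)) =
    Cfsg.Agent.H413.L16.er (239 - b) := by
  obtain ⟨h1, h2, h3, h4, -, h6⟩ := h
  rw [aK_xr_er h1 (by omega) (by omega), h6, er_ge le_rfl, smul_zero, add_zero]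

theorem Ort.fix {r b : ℕ} (h : Ort r b) (a : KK) {v : LK} (hv : v ∈ Dr b) : aK (xr r a) v = v :=
  Dr_fix h.2.1 (h.er a) (h.en a) hv

/-- the root `b` in the list `L` -/
def InL (L : List ℕ) (b : ℕ) : Prop := b < 240 ∧ ∀ r ∈ L, r < 240 ∧ (r = b ∨ r = 239 - b ∨ Ort r b)

instance (L : List ℕ) (b : ℕ) : Decidable (InL L b) := by unfold InL; infer_instance

theorem InL.xr {L : List ℕ} {b : ℕ} (h : InL L b) {r : ℕ} (hr : r ∈ L) (a : KK) {v : LK} (hv : v ∈ Dr b) :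
    aK (xr r a) v ∈ Dr b := by
  rcases (h.2 r hr).2 with h1 | h1 | h1
  · rw [h1]; exact xr_Dr h.1 a hv
  · rw [h1, ← Dr_neg h.1]
    rw [← Dr_neg h.1] at hv
    exact xr_Dr (by omega) a hv
  · rw [h1.fix a hv]; exact hv

theorem InL.Dr {L : List ℕ} {b : ℕ} (h : InL L b) {m : GK} (hm : m ∈ KB L) : ∀ v ∈ Dr b, aK m v ∈ Dr b :=
  KB_ind (fun r hr => (h.2 r hr).1) (P := fun m => ∀ v ∈ Fr.Dr b, aK m v ∈ Fr.Dr b)
    (fun v hv => by rw [aK_one]; exact hv) (fun r hr a g hg v hv => by rw [aK_mul]; exact h.xr hr a (hg v hv)) hm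

theorem InL.hr {L : List ℕ} {b : ℕ} (h : InL L b) {m : GK} (hm : m ∈ KB L) : aK m (hr b) = hr b :=
  KB_ind (fun r hr => (h.2 r hr).1) (P := fun m => aK m (Cfsg.Agent.H413.L16.hr b) = Cfsg.Agent.H413.L16.hr b)
    (aK_one _) (fun r hr a g hg => by
      rw [aK_mul, hg]
      rcases (h.2 r hr).2 with h1 | h1 | h1
      · rw [h1, aK_xr_hr h.1]
      · rw [h1, ← hr_neg h.1, aK_xr_hr (by omega)]
      · exact h1.fix a (hr_Dr b)) hm

/-- an element of the Cartan subalgebra which is orthogonal to the other roots moves along `Dr b` -/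
theorem InL.hv {L : List ℕ} {b : ℕ} (h : InL L b) {c : Fin chevE8.rank → KK}
    (hc : ∀ r ∈ L, r = b ∨ r = 239 - b ∨ BF (hv c) (Cfsg.Agent.H413.L16.hr r) = 0) {m : GK} (hm : m ∈ KB L) :
    ∃ d ∈ Fr.Dr b, aK m (hv c) = hv c + d :=
  KB_ind (fun r hr => (h.2 r hr).1) (P := fun m => ∃ d ∈ Fr.Dr b, aK m (Cfsg.Agent.H413.L16.hv c) =
    Cfsg.Agent.H413.L16.hv c + d) ⟨0, Submodule.zero_mem _, by rw [aK_one, add_zero]⟩ (fun r hr a g ⟨d, hd, e⟩ => by
      refine ⟨(a * BF (Cfsg.Agent.H413.L16.hv c) (Cfsg.Agent.H413.L16.hr r)) • er r + aK (Cfsg.Agent.H413.L16.xr r a) d,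
        Submodule.add_mem _ ?_ (h.xr hr a hd), by rw [aK_mul, e, aK_add, aK_xr_hv (h.2 r hr).1, add_assoc]⟩
      rcases hc r hr with h1 | h1 | h1
      · rw [h1]; exact Submodule.smul_mem _ _ (er_Dr b)
      · rw [h1]; exact Submodule.smul_mem _ _ (en_Dr b)
      · rw [h1, mul_zero, zero_smul]; exact Submodule.zero_mem _) hm

theorem BF_hv_Dr {c : Fin chevE8.rank → KK} {b : ℕ} (hb : b < 240) (h : BF (hv c) (hr b) = 0) {v : LK} (hv' : v ∈ Dr b) :
    BF (hv c) v = 0 := by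
  obtain ⟨x, y, z, rfl⟩ := hv'
  simp only [map_add, map_smul, smul_eq_mul]
  rw [BF_hv_er c hb, BF_hv_er c (by omega), h]
  ring

theorem BF_Dr_Dr {a b : ℕ} (ha : a < 240) (hb : b < 240) (h1 : a ≠ b) (h2 : a ≠ 239 - b) (h3 : ipr a b % 2 = 0) {u v : LK}
    (hu : u ∈ Dr a) (hv' : v ∈ Dr b) : BF u v = 0 := by
  obtain ⟨x, y, z, rfl⟩ := hu
  obtain ⟨x', y', z', rfl⟩ := hv'
  have ha' : 239 - a < 240 := by omega
  have hb' : 239 - b < 240 := by omega
  simp only [map_add, map_smul, smul_eq_mul, LinearMap.add_apply, LinearMap.smul_apply]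
  rw [BF_er_er ha hb, BF_er_er ha hb', BF_er_er ha' hb, BF_er_er ha' hb', BF_hr_er a hb, BF_hr_er a hb', BF_er_hr b ha,
    BF_er_hr b ha', BF_hr_hr, cast_even h3, if_neg (by omega), if_neg (by omega), if_neg (by omega), if_neg (by omega)]
  ring

theorem hr_add {a b c : ℕ} (h : ∀ i : Fin 8, (cor chevE8 a i - (cor chevE8 b i + cor chevE8 c i)) % 2 = 0) :
    hr a = hr b + hr c := by
  funext k
  rcases k with i | s
  · have h1 := cast_congr (h (i.cast rk8))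
    push_cast at h1
    exact h1
  · exact (add_zero (0 : KK)).symm

theorem hr_sum (a : ℕ) (l : List ℕ) (h : ∀ i : Fin 8, (cor chevE8 a i - (l.map fun b => cor chevE8 b i).sum) % 2 = 0) :
    hr a = (l.map hr).sum := by
  have key : ∀ (l : List ℕ) (k : chevE8.Idx), (l.map hr).sum k =
      Sum.elim (fun i : Fin chevE8.rank => (((l.map fun b => cor chevE8 b i).sum : ℤ) : KK)) (fun _ => 0) k := by
    intro l k
    induction l with
    | nil => rcases k with i | s <;> simp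
    | cons b l ih =>
      rw [List.map_cons, List.sum_cons, Pi.add_apply, ih]
      rcases k with i | s
      · simp only [Sum.elim_inl, List.map_cons, List.sum_cons, Int.cast_add]
        rfl
      · exact add_zero (0 : KK)
  funext k
  rw [key]
  rcases k with i | s
  · exact cast_congr (h (i.cast rk8))
  · rfl

/-! ### the logarithm -/

/-- the logarithm of an involution -/
def IsLog (r : GK) (c : LK) : Prop := ∀ v, BF c v ^ 2 = BF v (aK r v)

theorem sq_inj {a b : KK} (h : a ^ 2 = b ^ 2) : a = b := frobenius_inj KK 2 h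

theorem IsLog.unique {r : GK} {c c' : LK} (h : IsLog r c) (h' : IsLog r c') : c = c' := by
  rw [← sub_eq_zero]
  refine BF_eq_zero fun v => ?_
  rw [map_sub, LinearMap.sub_apply, sq_inj ((h v).trans (h' v).symm), sub_self]

theorem IsLog.conj {r : GK} {c : LK} (h : IsLog r c) (g : GK) : IsLog (g * r * g⁻¹) (aK g c) := by
  intro v
  rw [← BF_aK g⁻¹, aK_inv', h, ← BF_aK g, aK_inv, aK_mul, aK_mul]

theorem IsLog.comm {r : GK} {c : LK} (h : IsLog r c) {g : GK} (hg : g * r = r * g) : aK g c = c := by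
  have h1 := h.conj g
  rw [hg, mul_inv_cancel_right] at h1
  exact h1.unique h

theorem BF_surj (φ : LK →ₗ[KK] KK) : ∃ c, ∀ v, BF c v = φ v := by
  have h1 : Function.Injective BF := (injective_iff_map_eq_zero BF).2 fun u hu =>
    BF_eq_zero fun v => by rw [hu]; rfl
  have h2 : Function.Surjective BF :=
    (LinearMap.injective_iff_surjective_of_finrank_eq_finrank (Subspace.dual_finrank_eq (K := KK) (V := LK)).symm).1 h1
  obtain ⟨c, hc⟩ := h2 φ
  exact ⟨c, fun v => by rw [hc]⟩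

theorem exists_log {r : GK} (hr2 : r * r = 1) : ∃ c, IsLog r c := by
  have hsym : ∀ u v, BF u (aK r v) = BF v (aK r u) := fun u v => by
    rw [← BF_aK r, ← aK_mul, hr2, aK_one, BF_symm]
  obtain ⟨q, hq⟩ : ∃ q : LK → KK, ∀ v, q v = BF v (aK r v) := ⟨_, fun _ => rfl⟩
  have qa : ∀ u v, q (u + v) = q u + q v := fun u v => by
    rw [hq, hq, hq, aK_add]
    simp only [map_add, LinearMap.add_apply]
    rw [hsym u v]
    linear_combination kadd_self (BF v (aK r u))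
  have qs : ∀ (a : KK) v, q (a • v) = a ^ 2 * q v := fun a v => by
    rw [hq, hq, aK_smul]
    simp only [map_smul, LinearMap.smul_apply, smul_eq_mul]
    ring
  have h1 : ∀ a : KK, ∃ b : KK, b ^ 2 = a := fun a => IsAlgClosed.exists_pow_nat_eq a (by norm_num)
  choose σ hσ using h1
  let φ : LK →ₗ[KK] KK :=
    { toFun := fun v => σ (q v)
      map_add' := fun u v => sq_inj (by
        rw [add_sq, hσ, hσ, hσ, qa, two_zero]
        ring)
      map_smul' := fun a v => sq_inj (by rw [RingHom.id_apply, smul_eq_mul, mul_pow, hσ, hσ, qs]) }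
  obtain ⟨c, hc⟩ := BF_surj φ
  refine ⟨c, fun v => ?_⟩
  rw [hc, ← hq]
  exact hσ _

/-- the projection to the fixed space of an element of order three -/
noncomputable def pr3 (t : GK) (v : LK) : LK := v + aK t v + aK t (aK t v)

theorem pr3_fix {t : GK} (ht : t ^ 3 = 1) (v : LK) : aK t (pr3 t v) = pr3 t v := by
  have h : aK t (aK t (aK t v)) = v := by
    rw [← aK_mul, ← aK_mul, ← pow_two, ← pow_succ, ht, aK_one]
  unfold pr3
  rw [aK_add, aK_add, h]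
  abel

theorem pr3_of_fix {t : GK} {v : LK} (h : aK t v = v) : pr3 t v = v := by
  unfold pr3
  rw [h, h, ladd_self, zero_add]

theorem BF_pr3 {t : GK} (c : LK) {v : LK} (h : aK t v = v) : BF (pr3 t c) v = BF c v := by
  have h1 : ∀ u, BF (aK t u) v = BF u v := fun u => by
    conv_lhs => rw [← h]
    exact BF_aK t u v
  unfold pr3
  simp only [map_add, LinearMap.add_apply]
  rw [h1 (aK t c), h1 c, kadd_self, zero_add]

theorem pr3_conj (g t : GK) (v : LK) : aK g (pr3 t v) = pr3 (g * t * g⁻¹) (aK g v) := by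
  unfold pr3
  simp only [aK_add, aK_mul, aK_inv']

theorem pr3_inv {t : GK} (ht : t ^ 3 = 1) (v : LK) : pr3 t⁻¹ v = pr3 t v := by
  have e : t⁻¹ = t * t := by rw [inv_eq_iff_mul_eq_one, ← ht, pow_succ', pow_two]
  have h : aK t (aK t (aK t v)) = v := by
    rw [← aK_mul, ← aK_mul, ← pow_two, ← pow_succ, ht, aK_one]
  unfold pr3
  rw [e]
  simp only [aK_mul]
  rw [h]
  abel

/-- an eigenvector with an eigenvalue different from one is orthogonal to the fixed vectors -/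
theorem BF_eig {t : GK} {u v : LK} {a : KK} (hu : aK t u = u) (hv' : aK t v = a • v) (ha : a ≠ 1) : BF u v = 0 := by
  have h := BF_aK t u v
  rw [hu, hv', map_smul, smul_eq_mul] at h
  have h1 : (a - 1) * BF u v = 0 := by linear_combination h
  exact (mul_eq_zero.1 h1).resolve_left (sub_ne_zero.2 ha)

theorem Tv.orth (hζ : IsPrimitiveRoot ζ 3) {t : GK} {V : Fin 8 → ZMod 3} (h : Tv t V ζ) {u : LK} (hu : aK t u = u) {s : ℕ}
    (hs : s < 240) (h0 : dz V (vec chevE8 8 s) ≠ 0) : BF u (Cfsg.Agent.H413.L16.er s) = 0 :=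
  BF_eig hu (h.er hζ hs) fun h1 => h0 ((ZMod.val_eq_zero _).1
    (Nat.eq_zero_of_dvd_of_lt ((hζ.pow_eq_one_iff_dvd _).1 h1) (ZMod.val_lt _)))

theorem Tv.fix (hζ : IsPrimitiveRoot ζ 3) {t : GK} {V : Fin 8 → ZMod 3} (h : Tv t V ζ) {s : ℕ}
    (hs : s < 240) (h0 : dz V (vec chevE8 8 s) = 0) : aK t (Cfsg.Agent.H413.L16.er s) = Cfsg.Agent.H413.L16.er s := by
  rw [h.er hζ hs, h0, ZMod.val_zero, pow_zero, one_smul]

end Cfsg.Agent.E82.Fr
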