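import Cfsg.Agent.E82.Fr.Tab

/-!
# S3369: the frames of the elementary abelian 3-subgroups (helper39)

* `frame3` : four commuting elements of type 134 are the `h_{a_i}(ζ)`, `a = 152, 159, 226, 239`;
* `frame1` : `c₁ c₂ c₃` of type 80 with products of type 92; `frame2` : type 92 with products of type 80.

In all the frames the Frobenius map acts as `gz`.
-/

set_option autoImplicit false
set_option linter.unusedSectionVars false
set_option maxRecDepth 100000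

namespace Cfsg.Agent.E82.Fr

open Cfsg Cfsg.Lie Cfsg.Lie.ChevalleyDatum
open Cfsg.Agent.Tits.Roots Cfsg.Agent.ChevalleyStructure.CoxeterGeomTypes Cfsg.Agent.Nodes.RGDChev
open Cfsg.Agent.BpExc.FamUntw (phi)
open Cfsg.Agent.H897.T5Frame (bc rc bf_eq)
open Cfsg.Agent.H897.T5UntwRow (A8)
open Cfsg.Agent.H939.L64 (KK E2 LK em TorZ cntE)
open Cfsg.Agent.H259.L34 (dz)
open Cfsg.Agent.H413.L16 (act exists_good vec_act nr hFrm8)
open Cfsg.Agent.H201.L34 (gz)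
open Dat

attribute [local instance] Cfsg.Agent.H413.L64.charKK

variable {ζ : KK}

/-- one more element, with a table -/
theorem stepT (hζ : IsPrimitiveRoot ζ 3) {ι : Type} {x : ι → E2} {V : ι → ℕ} {y : E2} {gs : List (ℕ × ℕ × ℕ)} {T : ℕ}
    {c : ℕ → Bool} {tg : List ℕ} (hok : ∀ g ∈ gs, okG g ∧ ∀ i, ap g (V i) = V i)
    (hchk : allN (chk gs T c (fun _ => 0) tg) 6561 = true) {z : GK} {u : Fin 8 → ZMod 3}
    (h : TupZ x (fun i => vc (V i)) ζ z) (hu : One y u ζ z) (hc : ∀ s < 6561, One y (vc s) ζ z → c s = true) :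
    ∃ s ∈ tg, ∃ z', TupZ x (fun i => vc (V i)) ζ z' ∧ One y (vc s) ζ z' := by
  obtain ⟨s, hs, rfl⟩ := vc_surj u
  obtain ⟨t, ht, -, h1⟩ := descend (P := fun s => ∃ z', TupZ x (fun i => vc (V i)) ζ z' ∧ One y (vc s) ζ z')
    (fun g hg s ⟨z', h1, h2⟩ => by
      obtain ⟨w, hw⟩ := ap_spec (hok g hg).1
      obtain ⟨n, hn⟩ := exists_good w
      refine ⟨z' * n, fun i => ?_, by rw [hw]; exact h2.rp hζ hn.rp⟩
      have h3 := One.rp hζ (h1 i) hn.rp
      rw [← hw, (hok g hg).2 i] at h3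
      exact h3) hchk hs (hc s hs hu) ⟨z, h, hu⟩
  exact ⟨t, ht, h1⟩

theorem tup1 {a : E2} {u : ℕ} {z : GK} (ha : One a (vc u) ζ z) : TupZ ![a] (fun i => vc (![u] i)) ζ z := by
  intro i
  fin_cases i
  exact ha

theorem tup2 {a b : E2} {u v : ℕ} {z : GK} (ha : One a (vc u) ζ z) (hb : One b (vc v) ζ z) :
    TupZ ![a, b] (fun i => vc (![u, v] i)) ζ z := by
  intro i
  fin_cases i
  exacts [ha, hb]

theorem tup3 {a b c : E2} {u v w : ℕ} {z : GK} (ha : One a (vc u) ζ z) (hb : One b (vc v) ζ z) (hc : One c (vc w) ζ z) :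
    TupZ ![a, b, c] (fun i => vc (![u, v, w] i)) ζ z := by
  intro i
  fin_cases i
  exacts [ha, hb, hc]

theorem tup4 {a b c d : E2} {u v w x : ℕ} {z : GK} (ha : One a (vc u) ζ z) (hb : One b (vc v) ζ z)
    (hc : One c (vc w) ζ z) (hd : One d (vc x) ζ z) : TupZ ![a, b, c, d] (fun i => vc (![u, v, w, x] i)) ζ z := by
  intro i
  fin_cases i
  exacts [ha, hb, hc, hd]

theorem un1 {a : E2} {u : ℕ} {z : GK} (h : TupZ ![a] (fun i => vc (![u] i)) ζ z) : One a (vc u) ζ z := h 0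

theorem un2 {a b : E2} {u v : ℕ} {z : GK} (h : TupZ ![a, b] (fun i => vc (![u, v] i)) ζ z) :
    One a (vc u) ζ z ∧ One b (vc v) ζ z := ⟨h 0, h 1⟩

theorem un3 {a b c : E2} {u v w : ℕ} {z : GK} (h : TupZ ![a, b, c] (fun i => vc (![u, v, w] i)) ζ z) :
    One a (vc u) ζ z ∧ One b (vc v) ζ z ∧ One c (vc w) ζ z := ⟨h 0, h 1, h 2⟩

theorem One.cancel (hζ : IsPrimitiveRoot ζ 3) {a b : E2} {u v : Fin 8 → ZMod 3} {z : GK} (ha : One a u ζ z)
    (hab : One (a * b) (u + v) ζ z) : One b v ζ z := by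
  have h := (ha.inv hζ).mul hζ hab
  rwa [inv_mul_cancel_left, neg_add_cancel_left] at h

theorem sm515 : Sm (vc 515) := sm_of ![0, 1, 1, 2, 1, 0, 0, 0] (by decide +kernel)
theorem sm4619 : Sm (vc 4619) := sm_of ![0, 1, 1, 2, 2, 2, 1, 0] (by decide +kernel)
theorem sm4375 : Sm (vc 4375) := sm_of ![2, 2, 3, 4, 3, 2, 1, 0] (by decide +kernel)
theorem sm2187 : Sm (vc 2187) := sm_of ![2, 3, 4, 6, 5, 4, 3, 2] (by decide +kernel)
theorem sm2485 : Sm (vc 2485) := sm_of ![2, 2, 3, 4, 4, 4, 3, 2] (by decide +kernel)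
theorem sm4673 : Sm (vc 4673) := sm_of ![2, 1, 2, 2, 2, 2, 1, 0] (by decide +kernel)
theorem sm972 : Sm (vc 972) := sm_of ![-2, -3, -4, -6, -5, -4, -4, -2] (by decide +kernel)
theorem sm4726 : Sm (vc 4726) := sm_of ![2, 2, 3, 4, 2, 2, 1, 0] (by decide +kernel)

/-! ### four elements of type 134 -/

/-- the values of the `h_{a_i}(ζ)` -/
def cA : Fin 4 → ℕ := ![515, 4619, 4375, 2187]

/-- the condition for one more element of type 134 -/
def c3 (a x : ℕ) : Bool := Nat.beq (tc (ad a x)) (tc (sb a x))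

theorem ok3a : ∀ g ∈ g3a, okG g ∧ ∀ i, ap g (![515] i) = ![515] i := by decide +kernel

theorem chk3a : allN (chk g3a t3a (fun x => Nat.beq (tc x) 134 && c3 515 x) (fun _ => 0) [4619]) 6561 = true := by
  decide +kernel

theorem ok3b : ∀ g ∈ g3b, okG g ∧ ∀ i, ap g (![515, 4619] i) = ![515, 4619] i := by decide +kernel

theorem chk3b : allN (chk g3b t3b (fun x => Nat.beq (tc x) 134 && c3 515 x && c3 4619 x) (fun _ => 0) [4375]) 6561 = true := by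
  decide +kernel

theorem ok3c : ∀ g ∈ g3c, okG g ∧ ∀ i, ap g (![515, 4619, 4375] i) = ![515, 4619, 4375] i := by decide +kernel

theorem chk3c : allN (chk g3c t3c (fun x => Nat.beq (tc x) 134 && c3 515 x && c3 4619 x && c3 4375 x &&
    Nat.beq (tc (ad 2216 x)) 80) (fun _ => 0) [2187]) 6561 = true := by
  decide +kernel

theorem c3_of (hζ : IsPrimitiveRoot ζ 3) {a b : E2} {x y : ℕ} {z : GK} (ha : One a (vc x) ζ z) (hb : One b (vc y) ζ z)
    (h : cf (a * b) = cf (a * b⁻¹)) : c3 x y = true := by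
  rw [c3, Nat.beq_eq, ← cf_ad hζ ha hb, ← cf_sb hζ ha hb, h]

/-- three elements of type 134 -/
theorem frame3' (hζ : IsPrimitiveRoot ζ 3) {y0 y1 y2 : E2} (h0 : y0 ^ 3 = 1) (h1 : y1 ^ 3 = 1) (h2 : y2 ^ 3 = 1)
    (c10 : Commute y1 y0) (c20 : Commute y2 y0) (c21 : Commute y2 y1) (f0 : cf y0 = 134) (f1 : cf y1 = 134)
    (f2 : cf y2 = 134) (p01 : cf (y0 * y1) = cf (y0 * y1⁻¹)) (p02 : cf (y0 * y2) = cf (y0 * y2⁻¹))
    (p12 : cf (y1 * y2) = cf (y1 * y2⁻¹)) :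
    ∃ z, One y0 (vc 515) ζ z ∧ One y1 (vc 4619) ζ z ∧ One y2 (vc 4375) ζ z := by
  obtain ⟨z0, a0⟩ := (norm1 hζ h0).1 f0
  obtain ⟨u1, z1, b0, b1⟩ := (tup1 a0).step hζ (fun i => i.elim0) h1 (fun i => by fin_cases i; exact c10)
  obtain ⟨s, hs, z2, d0, d1⟩ := stepT hζ ok3a chk3a b0 b1 fun s hs h => by
    rw [← cf_tc hζ hs h, f1, c3_of hζ (un1 b0) h p01]; rfl
  rw [List.mem_singleton] at hs
  subst hs
  obtain ⟨u2, z3, e0, e1⟩ := (tup2 (un1 d0) d1).step hζ (fun i => by fin_cases i; exact sm4619) h2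
    (fun i => by fin_cases i; exacts [c20, c21])
  obtain ⟨s, hs, z4, k0, k1⟩ := stepT hζ ok3b chk3b e0 e1 fun s hs h => by
    rw [← cf_tc hζ hs h, f2, c3_of hζ (un2 e0).1 h p02, c3_of hζ (un2 e0).2 h p12]; rfl
  rw [List.mem_singleton] at hs
  subst hs
  exact ⟨z4, k0 0, k0 1, k1⟩

/-- **four elements of type 134** -/
theorem frame3 {y : Fin 4 → E2} (h3 : ∀ i, y i ^ 3 = 1) (hc : ∀ i j, Commute (y i) (y j)) (hf : ∀ i, cf (y i) = 134)
    (hp : ∀ i j, i < j → cf (y i * y j) = cf (y i * (y j)⁻¹)) (h80 : cf (y 0 * y 1 * y 2 * y 3) = 80) :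
    ∃ (ζ : KK) (z : GK), IsPrimitiveRoot ζ 3 ∧ TupZ y (fun i => vc (cA i)) ζ z ∧ z⁻¹ * phi chevE8 KK 2 1 z = gz := by
  obtain ⟨ζ, hζ⟩ := Cfsg.Agent.H939.L64.exists_zeta 3 (by decide)
  obtain ⟨z, a0, a1, a2⟩ := frame3' hζ (h3 0) (h3 1) (h3 2) (hc 1 0) (hc 2 0) (hc 2 1) (hf 0) (hf 1) (hf 2)
    (hp 0 1 (by decide)) (hp 0 2 (by decide)) (hp 1 2 (by decide))
  obtain ⟨u, z1, e0, e1⟩ := (tup3 a0 a1 a2).step hζ (fun i => by fin_cases i; exacts [sm4619, sm4375]) (h3 3)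
    (fun i => by fin_cases i; exacts [hc 3 0, hc 3 1, hc 3 2])
  obtain ⟨s, hs, z2, k0, k1⟩ := stepT hζ ok3c chk3c e0 e1 fun s hs h => by
    have h1 : One (y 0 * y 1 * y 2) (vc 2216) ζ z1 := by
      have h2 := ((One.mul hζ (un3 e0).1 (un3 e0).2.1).mul hζ (un3 e0).2.2)
      rwa [show vc 515 + vc 4619 + vc 4375 = vc 2216 by decide +kernel] at h2
    rw [← cf_tc hζ hs h, hf, c3_of hζ (un3 e0).1 h (hp 0 3 (by decide)), c3_of hζ (un3 e0).2.1 h (hp 1 3 (by decide)),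
      c3_of hζ (un3 e0).2.2 h (hp 2 3 (by decide)), ← cf_ad hζ h1 h, h80]
    rfl
  rw [List.mem_singleton] at hs
  subst hs
  have h4 : TupZ y (fun i => vc (cA i)) ζ z2 := by
    intro i
    fin_cases i
    exacts [k0 0, k0 1, k0 2, k1]
  obtain ⟨z', h5, h6⟩ := h4.frame hζ fun i => by fin_cases i; exacts [sm4619, sm4375, sm2187]
  exact ⟨ζ, z', hζ, h5, h6⟩

/-! ### three elements, the products of one type -/

/-- the condition on the products -/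
def cp (d a x : ℕ) : Bool := Nat.beq (tc (ad a x)) d && Nat.beq (tc (sb a x)) d

theorem cp_of (hζ : IsPrimitiveRoot ζ 3) {a b : E2} {x y d : ℕ} {z : GK} (ha : One a (vc x) ζ z) (hb : One b (vc y) ζ z)
    (h : cf (a * b) = d) (h' : cf (a * b⁻¹) = d) : cp d x y = true := by
  rw [cp, ← cf_ad hζ ha hb, ← cf_sb hζ ha hb, h, h', Nat.beq_refl]
  rfl

/-- the hypotheses on a triple -/
structure Trip (c : Fin 3 → E2) (a d : ℕ) : Prop where
  cube : ∀ i, c i ^ 3 = 1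
  comm : ∀ i j, Commute (c i) (c j)
  one : ∀ i, cf (c i) = a
  mul : ∀ i j, i < j → cf (c i * c j) = d
  div : ∀ i j, i < j → cf (c i * (c j)⁻¹) = d

theorem ok2a : ∀ g ∈ Dat.g2a, okG g ∧ ∀ i, ap g (![4402] i) = ![4402] i := by decide +kernel

theorem chk2a : allN (chk Dat.g2a t2a (fun x => Nat.beq (tc x) 92 && cp 80 4402 x) (fun _ => 0) [972]) 6561 = true := by
  decide +kernel

theorem ok2b : ∀ g ∈ Dat.g2b, okG g ∧ ∀ i, ap g (![4402, 972] i) = ![4402, 972] i := by decide +kernel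

theorem chk2b : allN (chk Dat.g2b t2b (fun x => Nat.beq (tc x) 92 && cp 80 4402 x && cp 80 972 x) (fun _ => 0) [4726]) 6561 =
    true := by decide +kernel

/-- the values in the second frame -/
def cD : Fin 3 → ℕ := ![4402, 972, 4726]

/-- **type 92, products of type 80** -/
theorem frame2 {c : Fin 3 → E2} (h : Trip c 92 80) :
    ∃ (ζ : KK) (z : GK), IsPrimitiveRoot ζ 3 ∧ TupZ c (fun i => vc (cD i)) ζ z ∧ z⁻¹ * phi chevE8 KK 2 1 z = gz := by
  obtain ⟨ζ, hζ⟩ := Cfsg.Agent.H939.L64.exists_zeta 3 (by decide)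
  obtain ⟨z0, a0⟩ := (norm1 hζ (h.cube 0)).2.1 (h.one 0)
  obtain ⟨u1, z1, b0, b1⟩ := (tup1 a0).step hζ (fun i => i.elim0) (h.cube 1) (fun i => by fin_cases i; exact h.comm 1 0)
  obtain ⟨s, hs, z2, d0, d1⟩ := stepT hζ ok2a chk2a b0 b1 fun s hs k => by
    rw [← cf_tc hζ hs k, h.one, cp_of hζ (un1 b0) k (h.mul 0 1 (by decide)) (h.div 0 1 (by decide))]; rfl
  rw [List.mem_singleton] at hs
  subst hs
  obtain ⟨u2, z3, e0, e1⟩ := (tup2 (un1 d0) d1).step hζ (fun i => by fin_cases i; exact sm972) (h.cube 2)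
    (fun i => by fin_cases i; exacts [h.comm 2 0, h.comm 2 1])
  obtain ⟨s, hs, z4, k0, k1⟩ := stepT hζ ok2b chk2b e0 e1 fun s hs k => by
    rw [← cf_tc hζ hs k, h.one, cp_of hζ (un2 e0).1 k (h.mul 0 2 (by decide)) (h.div 0 2 (by decide)),
      cp_of hζ (un2 e0).2 k (h.mul 1 2 (by decide)) (h.div 1 2 (by decide))]; rfl
  rw [List.mem_singleton] at hs
  subst hs
  have h4 : TupZ c (fun i => vc (cD i)) ζ z4 := by
    intro i
    fin_cases i
    exacts [k0 0, k0 1, k1]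
  obtain ⟨z', h5, h6⟩ := h4.frame hζ fun i => by fin_cases i; exacts [sm972, sm4726]
  exact ⟨ζ, z', hζ, h5, h6⟩

theorem ok1a : ∀ g ∈ g1a, okG g ∧ ∀ i, ap g (![4401] i) = ![4401] i := by decide +kernel

theorem chk1a : allN (chk g1a t1a (fun x => Nat.beq (tc x) 80 && cp 92 4401 x) (fun _ => 0) [4645]) 6561 = true := by
  decide +kernel

theorem ok1b : ∀ g ∈ g1b, okG g ∧ ∀ i, ap g (![4401, 4645] i) = ![4401, 4645] i := by decide +kernel

theorem chk1b : allN (chk g1b t1b (fun x => Nat.beq (tc x) 80 && cp 92 4401 x && cp 92 4645 x) (fun _ => 0)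
    [272, 5211, 1080, 2277, 4554]) 6561 = true := by decide +kernel

/-- the certificate against a bad orbit -/
def Bad (x s t : ℕ) (k : ZMod 3) (L : List ℕ) : Prop := s < 240 ∧ t < 240 ∧
  dz (vc 4401) (vec chevE8 8 s) = 0 ∧ dz (vc 4645) (vec chevE8 8 s) = 1 ∧ dz (vc x) (vec chevE8 8 s) = k ∧
  dz (vc 4401) (vec chevE8 8 t) = 0 ∧ dz (vc 4645) (vec chevE8 8 t) = 1 ∧ dz (vc x) (vec chevE8 8 t) = k ∧
  bc A8 (vec chevE8 8 s) (vec chevE8 8 t) = -1 ∧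
  (∀ r < 240, dz (vc 4401) (vec chevE8 8 r) = 0 → dz (vc 4645) (vec chevE8 8 r) = 1 → dz (vc x) (vec chevE8 8 r) = -k →
    r ∈ L) ∧ ∀ a ∈ L, ∀ b ∈ L, bc A8 (vec chevE8 8 a) (vec chevE8 8 b) ≠ -1

set_option synthInstance.maxSize 4000 in
instance (x s t : ℕ) (k : ZMod 3) (L : List ℕ) : Decidable (Bad x s t k L) := by unfold Bad; infer_instance

theorem bad1 : Bad 5211 10 124 1 [128, 134, 140, 146, 151, 217, 222, 228] := by decide +kernel
theorem bad2 : Bad 1080 9 127 2 [123, 134, 140, 146, 151, 218, 223, 227] := by decide +kernel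
theorem bad3 : Bad 2277 9 127 1 [10, 34, 35, 44, 45, 134, 146, 223] := by decide +kernel
theorem bad4 : Bad 4554 9 127 2 [10, 34, 35, 44, 45, 134, 146, 223] := by decide +kernel

theorem Bad.elim {x s t : ℕ} {k : ZMod 3} {L : List ℕ} (h : Bad x s t k L) {w : W8} (h1 : wa w (vc 4401) = vc 4401)
    (h2 : wa w (vc 4645) = vc 4645) (h3 : wa w (-vc x) = vc x) : False := by
  obtain ⟨hs, ht, s1, s2, s3, t1, t2, t3, hst, hL, hb⟩ := h
  have key : ∀ r < 240, dz (vc 4401) (vec chevE8 8 r) = 0 → dz (vc 4645) (vec chevE8 8 r) = 1 →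
      dz (vc x) (vec chevE8 8 r) = k → ∃ a ∈ L, vec chevE8 8 a = act w (vec chevE8 8 r) := by
    intro r hr r1 r2 r3
    obtain ⟨a, ha, e⟩ := vec_act w (show r < chevE8.nroots by rw [nr]; exact hr)
    rw [← h1, dz_wa, ← e] at r1
    rw [← h2, dz_wa, ← e] at r2
    rw [← h3, dz_wa, ← e, dz_neg_left] at r3
    exact ⟨a, hL a (by rw [← nr]; exact ha) r1 r2 (by rw [← r3, neg_neg]), e⟩
  obtain ⟨a, ha, ea⟩ := key s hs s1 s2 s3
  obtain ⟨b, hb', eb⟩ := key t ht t1 t2 t3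
  apply hb a ha b hb'
  rw [ea, eb, ← B8_eq, hFrm8.inv, ← hst, ← B8_eq]

theorem wa_gz : ∃ w : W8, ∀ v : Fin 8 → ZMod 3, wa w v = -v := by
  obtain ⟨w, -, hw⟩ := good_gz
  refine ⟨w, fun v => funext fun j => ?_⟩
  show dz v (act w (sr j)) = _
  rw [hw, dz_neg, Cfsg.Agent.H259.L34.dz_sr]
  rfl

/-- the values in the first frame -/
def cC : Fin 3 → ℕ := ![4401, 4645, 272]

/-- **type 80, products of type 92** -/
theorem frame1 {c : Fin 3 → E2} (h : Trip c 80 92) {g : E2}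
    (hg : (g * c 0 * g⁻¹ = c 0 ∧ g * c 1 * g⁻¹ = c 1 ∧ g * c 2 * g⁻¹ = (c 2)⁻¹) ∨
      (g * c 0 * g⁻¹ = (c 0)⁻¹ ∧ g * c 1 * g⁻¹ = (c 1)⁻¹ ∧ g * c 2 * g⁻¹ = c 2)) :
    ∃ (ζ : KK) (z : GK), IsPrimitiveRoot ζ 3 ∧ TupZ c (fun i => vc (cC i)) ζ z ∧ z⁻¹ * phi chevE8 KK 2 1 z = gz := by
  obtain ⟨ζ, hζ⟩ := Cfsg.Agent.H939.L64.exists_zeta 3 (by decide)
  obtain ⟨z0, a0⟩ := (norm1 hζ (h.cube 0)).2.2.2 (h.one 0)
  obtain ⟨u1, z1, b0, b1⟩ := (tup1 a0).step hζ (fun i => i.elim0) (h.cube 1) (fun i => by fin_cases i; exact h.comm 1 0)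
  obtain ⟨s, hs, z2, d0, d1⟩ := stepT hζ ok1a chk1a b0 b1 fun s hs k => by
    rw [← cf_tc hζ hs k, h.one, cp_of hζ (un1 b0) k (h.mul 0 1 (by decide)) (h.div 0 1 (by decide))]; rfl
  rw [List.mem_singleton] at hs
  subst hs
  have e12 : vc 2485 = vc 4401 + vc 4645 := by decide +kernel
  have e13 : vc 4673 = vc 4401 + vc 272 := by decide +kernel
  have d2 : One (c 0 * c 1) (vc 2485) ζ z2 := by rw [e12]; exact One.mul hζ (un1 d0) d1
  obtain ⟨u2, z3, e0, e1⟩ := (tup2 (un1 d0) d2).step hζ (fun i => by fin_cases i; exact sm2485) (h.cube 2)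
    (fun i => by fin_cases i; exacts [h.comm 2 0, (h.comm 2 0).mul_right (h.comm 2 1)])
  have e2 : One (c 0) (vc 4401) ζ z3 := e0 0
  have e3 : One (c 1) (vc 4645) ζ z3 := One.cancel hζ e2 (by rw [← e12]; exact e0 1)
  obtain ⟨s, hs, z4, k0, k1⟩ := stepT hζ ok1b chk1b (tup2 e2 e3) e1 fun s hs k => by
    rw [← cf_tc hζ hs k, h.one, cp_of hζ e2 k (h.mul 0 2 (by decide)) (h.div 0 2 (by decide)),
      cp_of hζ e3 k (h.mul 1 2 (by decide)) (h.div 1 2 (by decide))]; rfl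
  have k2 : One (c 0) (vc 4401) ζ z4 := k0 0
  have k3 : One (c 1) (vc 4645) ζ z4 := k0 1
  have hw : ∃ w : W8, wa w (vc 4401) = vc 4401 ∧ wa w (vc 4645) = vc 4645 ∧ wa w (-vc s) = vc s := by
    have m1 : TupZ ![g * c 0 * g⁻¹, g * c 1 * g⁻¹, g * c 2 * g⁻¹] ![vc 4401, vc 4645, vc s] ζ (em g * z4) := by
      intro i
      fin_cases i
      exacts [k2.conj g, k3.conj g, k1.conj g]
    rcases hg with ⟨g0, g1, g2⟩ | ⟨g0, g1, g2⟩
    · have m2 : TupZ ![g * c 0 * g⁻¹, g * c 1 * g⁻¹, g * c 2 * g⁻¹] ![vc 4401, vc 4645, -vc s] ζ z4 := by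
        rw [g0, g1, g2]
        intro i
        fin_cases i
        exacts [k2, k3, k1.inv hζ]
      obtain ⟨w, hw⟩ := TupZ.conj_w hζ m1 m2
      exact ⟨w, hw 0, hw 1, hw 2⟩
    · have m2 : TupZ ![g * c 0 * g⁻¹, g * c 1 * g⁻¹, g * c 2 * g⁻¹] ![-vc 4401, -vc 4645, vc s] ζ z4 := by
        rw [g0, g1, g2]
        intro i
        fin_cases i
        exacts [k2.inv hζ, k3.inv hζ, k1]
      obtain ⟨w, hw⟩ := TupZ.conj_w hζ m1 m2
      obtain ⟨w0, hw0⟩ := wa_gz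
      refine ⟨w0 * w, ?_, ?_, ?_⟩
      · rw [wa_mul, hw0]; exact hw 0
      · rw [wa_mul, hw0]; exact hw 1
      · rw [wa_mul, hw0, neg_neg]; exact hw 2
  obtain ⟨w, w1, w2, w3⟩ := hw
  simp only [List.mem_cons, List.not_mem_nil, or_false] at hs
  rcases hs with rfl | rfl | rfl | rfl | rfl
  · have m1 : One (c 0 * c 1) (vc 2485) ζ z4 := by rw [e12]; exact One.mul hζ k2 k3
    have m2 : One (c 0 * c 2) (vc 4673) ζ z4 := by rw [e13]; exact One.mul hζ k2 k1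
    obtain ⟨z', h5, h6⟩ := (tup3 k2 m1 m2).frame hζ fun i => by fin_cases i; exacts [sm2485, sm4673]
    refine ⟨ζ, z', hζ, fun i => ?_, h6⟩
    fin_cases i
    · exact h5 0
    · exact One.cancel (v := vc 4645) hζ (un3 h5).1 (by rw [← e12]; exact (un3 h5).2.1)
    · exact One.cancel (v := vc 272) hζ (un3 h5).1 (by rw [← e13]; exact (un3 h5).2.2)
  · exact (bad1.elim w1 w2 w3).elim
  · exact (bad2.elim w1 w2 w3).elim
  · exact (bad3.elim w1 w2 w3).elim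
  · exact (bad4.elim w1 w2 w3).elim

end Cfsg.Agent.E82.Fr
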