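import Cfsg.Agent.E82.Fr.Tor
import Cfsg.Agent.E82.Fr.Dat

/-!
# S3369: codes of value vectors, descent along a tree of reflections, the type table (helper39)

* `vc x` : the vector of the code `x`; `ad`, `ng`, `ap` : sum, negative, reflection on codes;
* `descend` : the descent; `cf_tc` : the dimension of the fixed space is the entry `tc x` of the table;
* `norm1` : the normal form of one element.
-/

set_option autoImplicit false
set_option linter.unusedSectionVars false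
set_option maxRecDepth 100000

namespace Cfsg.Agent.E82.Fr

open Cfsg Cfsg.Lie Cfsg.Lie.ChevalleyDatum
open Cfsg.Agent.Tits.Roots Cfsg.Agent.ChevalleyStructure.CoxeterGeomTypes Cfsg.Agent.Nodes.RGDChev
open Cfsg.Agent.H897.T5Frame (bc rc bf_eq)
open Cfsg.Agent.H897.T5UntwRow (A8)
open Cfsg.Agent.H939.L64 (KK E2 LK em TorZ cntE)
open Cfsg.Agent.H259.L34 (dz cz count_vecOf fix_eq)
open Cfsg.Agent.H943.E8Tab (vecOf)
open Dat

/-- the vector of a code -/
def vc (x : ℕ) : Fin 8 → ZMod 3 := fun j => ((x / 3 ^ (j : ℕ) : ℕ) : ZMod 3)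

/-- the code with given digits -/
def mk (f : ℕ → ℕ) : ℕ := f 1 % 3 + 3 * (f 3 % 3) + 9 * (f 9 % 3) + 27 * (f 27 % 3) + 81 * (f 81 % 3) +
  243 * (f 243 % 3) + 729 * (f 729 % 3) + 2187 * (f 2187 % 3)

theorem mk_lt (f : ℕ → ℕ) : mk f < 6561 := by
  unfold mk
  omega

theorem vc_mk (f : ℕ → ℕ) (j : Fin 8) : vc (mk f) j = ((f (3 ^ (j : ℕ)) : ℕ) : ZMod 3) := by
  unfold vc mk
  rw [ZMod.natCast_eq_natCast_iff']
  have h0 := Nat.mod_lt (f 1) (show 0 < 3 by norm_num)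
  have h1 := Nat.mod_lt (f 3) (show 0 < 3 by norm_num)
  have h2 := Nat.mod_lt (f 9) (show 0 < 3 by norm_num)
  have h3 := Nat.mod_lt (f 27) (show 0 < 3 by norm_num)
  have h4 := Nat.mod_lt (f 81) (show 0 < 3 by norm_num)
  have h5 := Nat.mod_lt (f 243) (show 0 < 3 by norm_num)
  have h6 := Nat.mod_lt (f 729) (show 0 < 3 by norm_num)
  have h7 := Nat.mod_lt (f 2187) (show 0 < 3 by norm_num)
  fin_cases j <;> norm_num <;>
    (generalize f 1 % 3 = a0 at *; generalize f 3 % 3 = a1 at *; generalize f 9 % 3 = a2 at *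
     generalize f 27 % 3 = a3 at *; generalize f 81 % 3 = a4 at *; generalize f 243 % 3 = a5 at *
     generalize f 729 % 3 = a6 at *; generalize f 2187 % 3 = a7 at *; omega)

theorem vc_surj (v : Fin 8 → ZMod 3) : ∃ x < 6561, vc x = v := by
  refine ⟨mk fun q => if h : Nat.log 3 q < 8 then (v ⟨Nat.log 3 q, h⟩).val else 0, mk_lt _, funext fun j => ?_⟩
  rw [vc_mk]
  have h : Nat.log 3 (3 ^ (j : ℕ)) = j := Nat.log_pow (by norm_num) _
  rw [dif_pos (by rw [h]; exact j.2), ZMod.natCast_zmod_val]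
  congr 1
  exact Fin.ext h

/-- the sum -/
def ad (x y : ℕ) : ℕ := mk fun q => x / q + y / q

/-- the difference -/
def sb (x y : ℕ) : ℕ := mk fun q => x / q + 2 * (y / q)

theorem vc_ad (x y : ℕ) : vc (ad x y) = vc x + vc y := by
  funext j
  rw [ad, vc_mk]
  push_cast
  rfl

theorem vc_sb (x y : ℕ) : vc (sb x y) = vc x + -vc y := by
  funext j
  rw [sb, vc_mk]
  push_cast
  have h : (2 : ZMod 3) = -1 := by decide
  rw [h, neg_one_mul]
  rfl

/-- the scalar product -/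
def dt (a x : ℕ) : ℕ := (a % 3 * x + a / 3 % 3 * (x / 3) + a / 9 % 3 * (x / 9) + a / 27 % 3 * (x / 27) +
  a / 81 % 3 * (x / 81) + a / 243 % 3 * (x / 243) + a / 729 % 3 * (x / 729) + a / 2187 % 3 * (x / 2187)) % 3

theorem dt_eq (a x : ℕ) : ((dt a x : ℕ) : ZMod 3) = ∑ j, vc a j * vc x j := by
  rw [Fin.sum_univ_eight]
  unfold dt vc
  simp only [ZMod.natCast_mod, Nat.cast_add, Nat.cast_mul]
  norm_num

/-- evaluation before use -/
def frc {α : Type} (n : ℕ) (k : ℕ → α) : α :=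
  match n with
  | 0 => k 0
  | n + 1 => k (n + 1)

theorem frc_eq {α : Type} (n : ℕ) (k : ℕ → α) : frc n k = k n := by cases n <;> rfl

/-- a reflection on codes -/
def ap (g : ℕ × ℕ × ℕ) (x : ℕ) : ℕ := frc (dt g.2.1 x) fun s => mk fun q => x / q + s * (g.2.2 / q)

theorem ap_lt (g : ℕ × ℕ × ℕ) (x : ℕ) : ap g x < 6561 := by
  rw [ap, frc_eq]
  exact mk_lt _

/-- the data of a reflection are right -/
def okG (g : ℕ × ℕ × ℕ) : Prop := g.1 < 240 ∧ ∀ j : Fin 8, vc g.2.1 j = ((vec chevE8 8 g.1 j : ℤ) : ZMod 3) ∧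
  vc g.2.2 j = -((bc A8 (sr j) (vec chevE8 8 g.1) : ℤ) : ZMod 3)

instance (g : ℕ × ℕ × ℕ) : Decidable (okG g) := by unfold okG; infer_instance

theorem ap_spec {g : ℕ × ℕ × ℕ} (h : okG g) : ∃ w : W8, ∀ x, vc (ap g x) = wa w (vc x) := by
  obtain ⟨w, hw⟩ := exists_wa_rfl (N := 3) h.1
  refine ⟨w, fun x => funext fun j => ?_⟩
  rw [hw, ap, frc_eq, vc_mk]
  push_cast
  have h1 : dz (vc x) (vec chevE8 8 g.1) = ∑ j, vc g.2.1 j * vc x j := by
    unfold dz
    exact Finset.sum_congr rfl fun i _ => by rw [(h.2 i).1]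
  rw [dt_eq, h1]
  have h2 := (h.2 j).2
  unfold vc at h2
  rw [h2]
  unfold vc
  ring

/-- all the numbers below `n` -/
def allN (f : ℕ → Bool) (n : ℕ) : Bool := Nat.rec true (fun k b => f k && b) n

theorem allN_spec {f : ℕ → Bool} {n : ℕ} (h : allN f n = true) : ∀ x < n, f x = true := by
  induction n with
  | zero => intro x hx; omega
  | succ n ih =>
    have h1 : (f n && allN f n) = true := h
    rw [Bool.and_eq_true] at h1
    intro x hx
    rcases Nat.lt_succ_iff_lt_or_eq.1 hx with h2 | h2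
    · exact ih h1.2 x h2
    · rw [h2]; exact h1.1

/-- the entry of a tree -/
def en (T x : ℕ) : ℕ := Nat.shiftRight T (12 * x) % 4096

/-- the check of one code -/
def chk (gs : List (ℕ × ℕ × ℕ)) (T : ℕ) (c : ℕ → Bool) (key : ℕ → ℕ) (tg : List ℕ) (x : ℕ) : Bool :=
  !(c x) || tg.any (Nat.beq x) || frc (en T x) fun e => frc (ap (gs.getD (e % 16) (120, 2187, 2916)) x) fun y =>
    Nat.blt (e % 16) gs.length && c y && Nat.beq (key y) (key x) && Nat.blt (en T y / 16) (e / 16)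

/-- **the descent** -/
theorem descend {P : ℕ → Prop} {gs : List (ℕ × ℕ × ℕ)} {T : ℕ} {c : ℕ → Bool} {key : ℕ → ℕ} {tg : List ℕ}
    (hP : ∀ g ∈ gs, ∀ x, P x → P (ap g x)) (h : allN (chk gs T c key tg) 6561 = true) {x : ℕ} (hx : x < 6561)
    (hc : c x = true) (hp : P x) : ∃ y ∈ tg, key y = key x ∧ P y := by
  obtain ⟨d, hd⟩ : ∃ d, en T x / 16 = d := ⟨_, rfl⟩
  induction d using Nat.strong_induction_on generalizing x with
  | _ d ih =>
    have h1 := allN_spec h x hx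
    unfold chk at h1
    rw [frc_eq, frc_eq, hc] at h1
    simp only [Bool.not_true, Bool.false_or, Bool.or_eq_true, List.any_eq_true, Bool.and_eq_true, Nat.beq_eq,
      Nat.blt_eq] at h1
    rcases h1 with ⟨y, hy, rfl⟩ | ⟨⟨⟨h2, h3⟩, h4⟩, h5⟩
    · exact ⟨x, hy, rfl, hp⟩
    · have hg : gs.getD (en T x % 16) (120, 2187, 2916) ∈ gs := by
        rw [List.getD_eq_getElem _ _ h2]
        exact List.getElem_mem h2
      obtain ⟨y, hy, h6, h7⟩ := ih _ (hd ▸ h5) (ap_lt _ _) h3 (hP _ hg x hp) rfl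
      exact ⟨y, hy, h6.trans h4, h7⟩

/-- the entry of the type table -/
def tc (x : ℕ) : ℕ := Nat.shiftRight TY (8 * x) % 256

theorem okT : ∀ g ∈ gT, okG g := by decide +kernel

theorem chkT : allN (chk gT tT (fun _ => true) tc [0, 515, 4402, 729, 4401]) 6561 = true := by decide +kernel

variable {ζ : KK}

theorem cf_code (hζ : IsPrimitiveRoot ζ 3) {y : E2} {x : ℕ} {z : GK} (h : One y (vc x) ζ z) (Y : List ℕ)
    (hY : vc x = vecOf 3 Y) : cf y = cz 3 Y 0 + 8 := by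
  unfold cf
  rw [fix_eq (h.tor hζ), hY, cntE, if_pos rfl, count_vecOf]

theorem norm0 (hζ : IsPrimitiveRoot ζ 3) {y : E2} {x : ℕ} {z : GK} (hx : x < 6561) (h : One y (vc x) ζ z) :
    cf y = tc x ∧ ∃ u ∈ [0, 515, 4402, 729, 4401], tc u = tc x ∧ ∃ z', One y (vc u) ζ z' := by
  obtain ⟨u, hu, h1, z', h2⟩ := descend (P := fun x => ∃ z, One y (vc x) ζ z) (fun g hg x ⟨z, hz⟩ => by
    obtain ⟨w, hw⟩ := ap_spec (okT g hg)
    obtain ⟨n, hn⟩ := Cfsg.Agent.H413.L16.exists_good w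
    exact ⟨z * n, by rw [hw]; exact hz.rp hζ hn.rp⟩) chkT hx rfl ⟨z, h⟩
  refine ⟨?_, u, hu, h1, z', h2⟩
  rw [← h1]
  simp only [List.mem_cons, List.not_mem_nil, or_false] at hu
  rcases hu with rfl | rfl | rfl | rfl | rfl
  · rw [cf_code hζ h2 [0, 0, 0, 0, 0, 0, 0, 0] (by decide +kernel)]; decide +kernel
  · rw [cf_code hζ h2 [2, 0, 0, 1, 0, 2, 0, 0] (by decide +kernel)]; decide +kernel
  · rw [cf_code hζ h2 [1, 0, 0, 1, 0, 0, 0, 2] (by decide +kernel)]; decide +kernel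
  · rw [cf_code hζ h2 [0, 0, 0, 0, 0, 0, 1, 0] (by decide +kernel)]; decide +kernel
  · rw [cf_code hζ h2 [0, 0, 0, 1, 0, 0, 0, 2] (by decide +kernel)]; decide +kernel

/-- **the dimension of the fixed space** -/
theorem cf_tc (hζ : IsPrimitiveRoot ζ 3) {y : E2} {x : ℕ} {z : GK} (hx : x < 6561) (h : One y (vc x) ζ z) :
    cf y = tc x := (norm0 hζ hx h).1

theorem cf_ad (hζ : IsPrimitiveRoot ζ 3) {a b : E2} {x y : ℕ} {z : GK} (ha : One a (vc x) ζ z) (hb : One b (vc y) ζ z) :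
    cf (a * b) = tc (ad x y) := cf_tc hζ (mk_lt _) (by rw [vc_ad]; exact ha.mul hζ hb)

theorem cf_sb (hζ : IsPrimitiveRoot ζ 3) {a b : E2} {x y : ℕ} {z : GK} (ha : One a (vc x) ζ z) (hb : One b (vc y) ζ z) :
    cf (a * b⁻¹) = tc (sb x y) := cf_tc hζ (mk_lt _) (by rw [vc_sb]; exact ha.mul hζ (hb.inv hζ))

/-- **the normal form of one element** -/
theorem norm1 (hζ : IsPrimitiveRoot ζ 3) {y : E2} (hy : y ^ 3 = 1) :
    (cf y = 134 → ∃ z, One y (vc 515) ζ z) ∧ (cf y = 92 → ∃ z, One y (vc 4402) ζ z) ∧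
      (cf y = 86 → ∃ z, One y (vc 729) ζ z) ∧ (cf y = 80 → ∃ z, One y (vc 4401) ζ z) := by
  obtain ⟨ζ', v, -, z, t, rfl, ht, -⟩ := Cfsg.Agent.H259.L34.exists_tor (N := 3) (by decide) hy
  obtain ⟨v', hv'⟩ := exists_val hζ hy ht
  obtain ⟨x, hx, rfl⟩ := vc_surj v'
  obtain ⟨h1, u, hu, h2, h3⟩ := norm0 hζ hx hv'
  have e0 : tc 0 = 248 := by decide +kernel
  have e1 : tc 515 = 134 := by decide +kernel
  have e2 : tc 4402 = 92 := by decide +kernel
  have e3 : tc 729 = 86 := by decide +kernel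
  have e4 : tc 4401 = 80 := by decide +kernel
  simp only [List.mem_cons, List.not_mem_nil, or_false] at hu
  rcases hu with rfl | rfl | rfl | rfl | rfl <;>
    exact ⟨fun h => by first | exact h3 | omega, fun h => by first | exact h3 | omega,
      fun h => by first | exact h3 | omega, fun h => by first | exact h3 | omega⟩

/-- a certificate for a small class -/
theorem sm_of {v : Fin 8 → ZMod 3} (μ : Q8) (h : bc A8 μ μ ≤ 4 ∧ ∀ j, v j = ((bc A8 μ (sr j) : ℤ) : ZMod 3)) : Sm v :=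
  ⟨μ, by rw [B8_eq]; exact h.1, fun j => by rw [B8_eq]; exact h.2 j⟩

end Cfsg.Agent.E82.Fr
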