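import Cfsg.Agent.E82.Cls
import Cfsg.Agent.H5.L34.Lang
import Cfsg.Agent.H201.L34.Ops
import Cfsg.Agent.H544.L34.Glue

/-!
# S3369: families of commuting semisimple elements in the torus (helper39)

* `TupZ x V ζ z` : `z⁻¹ (x i) z` is the torus element with the values `ζ ^ (V i j)` on the simple roots;
* `wa w v` : the action of the Weyl group on the values; `TupZ.act`, `TupZ.conj_w` (two frames differ by an element of `W`);
* `Sm v` : the class of a lattice vector of norm at most four; `conZ` : all but one small, then the stabiliser in `W` is a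
  reflection group; `TupZ.step` : one more commuting element of order three; `TupZ.frame` : the Frobenius map acts as `gz`.
-/

set_option autoImplicit false
set_option linter.unusedSectionVars false
set_option maxRecDepth 100000

namespace Cfsg.Agent.E82.Fr

open CoxeterSystem Cfsg Cfsg.Lie Cfsg.Lie.ChevalleyDatum
open Cfsg.Agent.ChevalleyStructure Cfsg.Agent.ChevalleyStructure.Elts Cfsg.Agent.ChevalleyStructure.CoxeterGeom
  Cfsg.Agent.ChevalleyStructure.CoxeterGeomTypes Cfsg.Agent.ChevalleyStructure.NPerm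
open Cfsg.Agent.Tits.Roots Cfsg.Agent.Tits.Core Cfsg.Agent.Nodes Cfsg.Agent.Nodes.Reps Cfsg.Agent.Nodes.BNOf
  Cfsg.Agent.Nodes.RGDChev Cfsg.Agent.Nodes.Bruhat Cfsg.Agent.Nodes.SubComb Cfsg.Agent.Nodes.Coroot
open Cfsg.Agent.KFacts.RgdField Cfsg.Agent.KFacts.RgdChevCoord Cfsg.Agent.BpExc.TorCent Cfsg.Agent.BpExc.TorChev
open Cfsg.Agent.GpExc.Field Cfsg.Agent.BpExc.Tow Cfsg.Agent.BpExc.TowChev Cfsg.Agent.BpExc.Fr
  Cfsg.Agent.BpExc.LangFr Cfsg.Agent.LangThm Cfsg.Agent.BpExc Cfsg.Agent.H129.TorusChar Cfsg.Agent.H129.TorusMain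
open Cfsg.Agent.H795.SetCent Cfsg.Agent.H795.SetTor Cfsg.Agent.H720.TorusReal
open Cfsg.Agent.H897.T5Cent (coL chL mem_TL' exists_mu fix_class)
open Cfsg.Agent.H897.T5Frame (bc rc bf_eq)
open Cfsg.Agent.H897.T5UntwRow (A8)
open Cfsg.Agent.BpExc.RowsUntw (e8T)
open Cfsg.Agent.BpExc.FamInst Cfsg.Agent.BpExc.FamUntw
open Cfsg.Agent.H939.L64 (KK E2 LK em TorZ cntE)
open Cfsg.Agent.H413.L64 (charKK locKK nsysKK vl cX_eq_zpow zpow_val pow_val pow_inj_val twist_fix)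
open Cfsg.Agent.H413.L16 (cs8 act Good good_nn good_one exists_good hA8 hFrm8 finW8 nn nr)
open Cfsg.Agent.H259.L34 (dz dz_sub dz_smul dz_sr)
open Cfsg.Agent.H5.L34 (ConZ cent_formZ starZ)
open Cfsg.Agent.H201.L34 (gz gi good_gi LI fold_sq)

attribute [local instance] Cfsg.Agent.H413.L64.charKK

/-- the algebraic group -/
abbrev GK : Type := ↥(chevE8.group KK)

/-- the Weyl group -/
abbrev W8 : Type := CoxeterMatrix.E₈.Group

/-- the root lattice -/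
abbrev Q8 : Type := Fin 8 → ℤ

/-- the form -/
noncomputable abbrev B8 : LinearMap.BilinForm ℤ Q8 := Cfsg.Agent.H897.T5Lat.bf (cartanOf chevE8 8)

theorem B8_eq (x y : Q8) : B8 x y = bc A8 x y := bf_eq hA8 x y

theorem sum_sr (x : Q8) : x = ∑ i, x i • (sr i : Q8) := by
  funext k
  rw [Finset.sum_apply, Finset.sum_eq_single k]
  · rw [Pi.smul_apply, sr_self, smul_eq_mul, mul_one]
  · intro b _ hb
    rw [Pi.smul_apply, sr_ne hb.symm, smul_zero]
  · intro hk; exact absurd (Finset.mem_univ k) hk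

section Gen

variable {N : ℕ} [NeZero N] {ζ : KK}

theorem dz_add (v : Fin 8 → ZMod N) (a b : Q8) : dz v (a + b) = dz v a + dz v b := by
  unfold dz
  rw [← Finset.sum_add_distrib]
  exact Finset.sum_congr rfl fun i _ => by rw [Pi.add_apply]; push_cast; ring

theorem dz_zero (v : Fin 8 → ZMod N) : dz v 0 = 0 := by
  unfold dz
  exact Finset.sum_eq_zero fun i _ => by rw [Pi.zero_apply, Int.cast_zero, zero_mul]

theorem dz_neg (v : Fin 8 → ZMod N) (a : Q8) : dz v (-a) = -dz v a := by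
  rw [← zero_sub a, dz_sub, dz_zero, zero_sub]

theorem dz_add_left (u v : Fin 8 → ZMod N) (a : Q8) : dz (u + v) a = dz u a + dz v a := by
  unfold dz
  rw [← Finset.sum_add_distrib]
  exact Finset.sum_congr rfl fun i _ => by rw [Pi.add_apply]; ring

theorem dz_neg_left (u : Fin 8 → ZMod N) (a : Q8) : dz (-u) a = -dz u a := by
  unfold dz
  rw [← Finset.sum_neg_distrib]
  exact Finset.sum_congr rfl fun i _ => by rw [Pi.neg_apply]; ring

/-- `dz v` as an additive map -/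
def dzH (v : Fin 8 → ZMod N) : Q8 →+ ZMod N := AddMonoidHom.mk' (dz v) (dz_add v)

theorem dz_hom (f : Q8 →+ ZMod N) (a : Q8) : dz (fun j => f (sr j)) a = f a := by
  conv_rhs => rw [sum_sr a]
  rw [map_sum]
  unfold dz
  exact Finset.sum_congr rfl fun i _ => by rw [map_zsmul, zsmul_eq_mul]

theorem vl_dz (v : Fin 8 → ZMod N) (a : Q8) : ((vl v a : ℤ) : ZMod N) = dz v a := by
  unfold dz vl
  push_cast
  exact Finset.sum_congr rfl fun j _ => by rw [ZMod.natCast_zmod_val]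

theorem cX_dz (hζ : IsPrimitiveRoot ζ N) {t : GK} (ht : t ∈ TT chevE8 KK) {v : Fin 8 → ZMod N}
    (hv : ∀ j, cX e8T t (sr j) = ζ ^ (v j).val) (a : Q8) : cX e8T t a = ζ ^ (dz v a).val := by
  rw [cX_eq_zpow ht (hζ.ne_zero (NeZero.ne N)) hv, zpow_val hζ, vl_dz]

/-- the action of the Weyl group on the values -/
noncomputable def wa (w : W8) (v : Fin 8 → ZMod N) : Fin 8 → ZMod N := fun j => dz v (act w (sr j))

theorem dz_wa (w : W8) (v : Fin 8 → ZMod N) (a : Q8) : dz (wa w v) a = dz v (act w a) :=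
  dz_hom ((dzH v).comp (rep cs8 e8T.isCartan w).toAddMonoidHom) a

theorem wa_mul (w w' : W8) (v : Fin 8 → ZMod N) : wa (w * w') v = wa w' (wa w v) := by
  funext j
  show dz v (act (w * w') (sr j)) = dz (wa w v) (act w' (sr j))
  rw [dz_wa]
  congr 1
  exact rep_mul_apply _ _ _ _ _

theorem wa_one (v : Fin 8 → ZMod N) : wa 1 v = v := by
  funext j
  show dz v (rep cs8 e8T.isCartan 1 (sr j)) = _
  rw [map_one, Module.End.one_apply, dz_sr]

theorem wa_add (w : W8) (u v : Fin 8 → ZMod N) : wa w (u + v) = wa w u + wa w v :=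
  funext fun _ => dz_add_left _ _ _

theorem wa_neg (w : W8) (u : Fin 8 → ZMod N) : wa w (-u) = -wa w u := funext fun _ => dz_neg_left _ _

theorem wa_sub (w : W8) (u v : Fin 8 → ZMod N) : wa w (u - v) = wa w u - wa w v := by
  rw [sub_eq_add_neg, wa_add, wa_neg, sub_eq_add_neg]

/-- the reflection in a root -/
theorem exists_wa_rfl {r : ℕ} (hr : r < 240) : ∃ w : W8, ∀ (v : Fin 8 → ZMod N) (j : Fin 8),
    wa w v j = v j - ((bc A8 (sr j) (vec chevE8 8 r) : ℤ) : ZMod N) * dz v (vec chevE8 8 r) := by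
  obtain ⟨w, -, hw⟩ := good_nn hr
  refine ⟨w, fun v j => ?_⟩
  show dz v (act w (sr j)) = _
  rw [hw, rc, dz_sub, dz_smul, dz_sr]

variable {ι : Type}

/-- simultaneous torus data -/
def TupZ (x : ι → E2) (V : ι → Fin 8 → ZMod N) (ζ : KK) (z : GK) : Prop :=
  ∀ i, z⁻¹ * em (x i) * z ∈ TT chevE8 KK ∧ ∀ j, cX e8T (z⁻¹ * em (x i) * z) (sr j) = ζ ^ (V i j).val

variable {x : ι → E2} {V V' : ι → Fin 8 → ZMod N} {z z' : GK}

theorem TupZ.tor (hζ : IsPrimitiveRoot ζ N) (h : TupZ x V ζ z) (i : ι) : TorZ (x i) N (V i) ζ :=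
  ⟨hζ, z, _, rfl, (h i).1, (h i).2⟩

theorem TupZ.comp (h : TupZ x V ζ z) {κ : Type} (f : κ → ι) : TupZ (fun k => x (f k)) (fun k => V (f k)) ζ z :=
  fun k => h (f k)

/-- one element -/
def One (y : E2) (v : Fin 8 → ZMod N) (ζ : KK) (z : GK) : Prop :=
  z⁻¹ * em y * z ∈ TT chevE8 KK ∧ ∀ j, cX e8T (z⁻¹ * em y * z) (sr j) = ζ ^ (v j).val

theorem One.mul (hζ : IsPrimitiveRoot ζ N) {a b : E2} {u v : Fin 8 → ZMod N} (ha : One a u ζ z) (hb : One b v ζ z) :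
    One (a * b) (u + v) ζ z := by
  have e : z⁻¹ * em (a * b) * z = (z⁻¹ * em a * z) * (z⁻¹ * em b * z) := by rw [map_mul]; group
  refine ⟨by rw [e]; exact mul_mem ha.1 hb.1, fun j => ?_⟩
  rw [e, cX_mul e8T ha.1 hb.1, ha.2, hb.2, ← pow_add, pow_val hζ, Pi.add_apply]
  congr 2
  push_cast
  rw [ZMod.natCast_zmod_val, ZMod.natCast_zmod_val]

theorem One.inv (hζ : IsPrimitiveRoot ζ N) {a : E2} {u : Fin 8 → ZMod N} (ha : One a u ζ z) : One a⁻¹ (-u) ζ z := by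
  have e : z⁻¹ * em a⁻¹ * z = (z⁻¹ * em a * z)⁻¹ := by rw [map_inv]; group
  refine ⟨by rw [e]; exact inv_mem ha.1, fun j => ?_⟩
  have h1 := cX_mul e8T (inv_mem ha.1) ha.1 (sr j)
  rw [inv_mul_cancel, cX_one, ha.2] at h1
  have h2 : ζ ^ ((-u) j).val * ζ ^ (u j).val = 1 := by
    rw [← pow_add, pow_val hζ, Pi.neg_apply]
    push_cast
    rw [ZMod.natCast_zmod_val, ZMod.natCast_zmod_val, neg_add_cancel, ZMod.val_zero, pow_zero]
  rw [e]
  exact mul_right_cancel₀ (pow_ne_zero _ (hζ.ne_zero (NeZero.ne N))) (h1.symm.trans h2.symm)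

theorem One.tor (hζ : IsPrimitiveRoot ζ N) {a : E2} {u : Fin 8 → ZMod N} (ha : One a u ζ z) : TorZ a N u ζ :=
  ⟨hζ, z, _, rfl, ha.1, ha.2⟩

theorem One.rp (hζ : IsPrimitiveRoot ζ N) {a : E2} {u : Fin 8 → ZMod N} (ha : One a u ζ z) {w : W8} {n : GK}
    (hn : Rp cs8 nsysKK w n) : One a (wa w u) ζ (z * n) := by
  have e : (z * n)⁻¹ * em a * (z * n) = n⁻¹ * (z⁻¹ * em a * z) * n⁻¹⁻¹ := by group
  refine ⟨by rw [e]; exact (Subgroup.mem_normalizer_iff.1 hn.inv.mem_normalizer _).1 ha.1, fun j => ?_⟩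
  have h1 := cX_rp e8T cs8 locKK 2 hn.inv ha.1 (act w (sr j))
  rw [rep_inv_apply] at h1
  rw [e, h1, cX_dz hζ ha.1 ha.2]
  rfl

theorem One.conj {a : E2} {u : Fin 8 → ZMod N} (ha : One a u ζ z) (g : E2) : One (g * a * g⁻¹) u ζ (em g * z) := by
  have e : (em g * z)⁻¹ * em (g * a * g⁻¹) * (em g * z) = z⁻¹ * em a * z := by
    rw [map_mul, map_mul, map_inv]; group
  unfold One
  rw [e]
  exact ha

/-- **the action of the Weyl group** -/
theorem TupZ.act (hζ : IsPrimitiveRoot ζ N) (h : TupZ x V ζ z) (w : W8) : ∃ z', TupZ x (fun i => wa w (V i)) ζ z' := by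
  obtain ⟨n, hn⟩ := exists_good w
  exact ⟨z * n, fun i => One.rp hζ (h i) hn.rp⟩

/-- **two frames differ by an element of the Weyl group** -/
theorem TupZ.conj_w [Finite ι] (hζ : IsPrimitiveRoot ζ N) (h : TupZ x V ζ z) (h' : TupZ x V' ζ z') :
    ∃ w : W8, ∀ i, wa w (V' i) = V i := by
  obtain ⟨m, -, w, k, hk, hks, -⟩ := exists_formZ (tow e8T cs8 locKK 2 (k := KK)) (coL e8T cs8 locKK 2)
    (s := fun i => z⁻¹ * em (x i) * z) (t := fun i => z'⁻¹ * em (x i) * z')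
    (fun i => (mem_TL' e8T locKK).2 (h i).1) (fun i => (mem_TL' e8T locKK).2 (h' i).1) (c := z'⁻¹ * z)
    (by rw [GG_eq_top e8T cs8 locKK]; exact Subgroup.mem_top _) (fun i => by group)
  have hk' : Rp cs8 nsysKK w k := by
    have h1 := hk
    revert h1
    generalize (tow e8T cs8 locKK 2 (k := KK)).nsys = hN
    revert hN
    rw [TL_eq e8T locKK]
    intro _ h1
    exact h1
  refine ⟨w, fun i => funext fun j => ?_⟩
  have hgt : k * (z⁻¹ * em (x i) * z) * k⁻¹ = z'⁻¹ * em (x i) * z' := by rw [hks i]; group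
  have h1 := cX_rp e8T cs8 locKK 2 hk' (h i).1 (sr j)
  rw [hgt, cX_dz hζ (h' i).1 (h' i).2, (h i).2] at h1
  exact (pow_inj_val hζ).1 h1

end Gen

/-! ### small classes -/

/-- the class of a vector of norm at most four -/
def Sm (v : Fin 8 → ZMod 3) : Prop := ∃ μ : Q8, B8 μ μ ≤ 4 ∧ ∀ j, v j = ((B8 μ (sr j) : ℤ) : ZMod 3)

theorem dz_mu {v : Fin 8 → ZMod 3} {μ : Q8} (h : ∀ j, v j = ((B8 μ (sr j) : ℤ) : ZMod 3)) (a : Q8) :
    dz v a = ((B8 μ a : ℤ) : ZMod 3) := by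
  have h1 : v = fun j => ((Int.castAddHom (ZMod 3)).comp (B8 μ).toAddMonoidHom) (sr j) := funext h
  rw [h1, dz_hom]
  rfl

theorem Sm.wa {v : Fin 8 → ZMod 3} (h : Sm v) (w : W8) : Sm (wa w v) := by
  obtain ⟨μ, h1, h2⟩ := h
  refine ⟨act w⁻¹ μ, by rw [hFrm8.inv]; exact h1, fun j => ?_⟩
  show dz v (act w (sr j)) = _
  rw [dz_mu h2, ← hFrm8.inv w (act w⁻¹ μ), rep_apply_inv]

theorem fix_small {μ l : Q8} {w : W8} (h4 : B8 μ μ ≤ 4) (h : act w μ = μ - (3 : ℤ) • l) : act w μ = μ := by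
  have h1 := hFrm8.norm_sub_smul μ l 3
  rw [← h, hFrm8.inv] at h1
  have h2 := hFrm8.nonneg ((2 : ℤ) • μ - (3 : ℤ) • l)
  rw [hFrm8.norm_sub_smul] at h2
  simp only [map_smul, LinearMap.smul_apply, smul_eq_mul] at h2
  have h3 := hFrm8.nonneg l
  unfold B8 at h4
  have h5 : l = 0 := hFrm8.eq_zero (by omega)
  rw [h, h5, smul_zero, sub_zero]

theorem abs_small {μ β : Q8} (h4 : B8 μ μ ≤ 4) (hβ : IsRoot cs8 e8T.isCartan β) : -3 ≤ B8 μ β ∧ B8 μ β ≤ 3 := by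
  have h1 := hFrm8.nonneg (μ - (1 : ℤ) • β)
  have h2 := hFrm8.nonneg (μ - (-1 : ℤ) • β)
  rw [hFrm8.norm_sub_smul, hFrm8.self hβ] at h1 h2
  unfold B8 at h4 ⊢
  omega

theorem digits : ∀ (n : ℕ) (a : Fin n → ℤ), (∀ i, -3 ≤ a i ∧ a i ≤ 3) →
    (-(7 : ℤ) ^ n < 2 * ∑ i : Fin n, 7 ^ (i : ℕ) * a i ∧ 2 * ∑ i : Fin n, 7 ^ (i : ℕ) * a i < 7 ^ n) ∧
      (∑ i : Fin n, 7 ^ (i : ℕ) * a i = 0 → ∀ i, a i = 0)
  | 0, a, _ => by simp
  | n + 1, a, h => by
    obtain ⟨⟨h1, h2⟩, h3⟩ := digits n (fun i => a i.succ) fun i => h i.succ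
    have e : ∑ i : Fin (n + 1), 7 ^ (i : ℕ) * a i = a 0 + 7 * ∑ i : Fin n, 7 ^ (i : ℕ) * a i.succ := by
      rw [Fin.sum_univ_succ, Finset.mul_sum]
      congr 1
      · simp
      · exact Finset.sum_congr rfl fun i _ => by rw [Fin.val_succ, pow_succ]; ring
    have h0 := h 0
    have hodd : (7 : ℤ) ^ n % 2 = 1 := Int.odd_iff.1 (Odd.pow (by decide))
    rw [e, pow_succ]
    refine ⟨by omega, fun h4 i => ?_⟩
    refine Fin.cases (by omega) (fun i => h3 (by omega) i) i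

variable {ζ : KK}

/-- **all but one small: the stabiliser is a reflection group** -/
theorem conZ (hζ : IsPrimitiveRoot ζ 3) {n : ℕ} {t : Fin (n + 1) → GK} (ht : ∀ i, t i ∈ TT chevE8 KK)
    {V : Fin (n + 1) → Fin 8 → ZMod 3} (hv : ∀ i j, cX e8T (t i) (sr j) = ζ ^ (V i j).val)
    (hs : ∀ i : Fin n, Sm (V i.succ)) : ConZ e8T cs8 locKK 2 (Set.range t) := by
  intro w hw
  have hZ : Set.range t ⊆ TL (Tj e8T (k := KK)) := by
    rintro _ ⟨i, rfl⟩
    exact (mem_TL' e8T locKK).2 (ht i)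
  have h3 : ∀ i, t i ^ 3 = 1 := fun i => cX_inj e8T (pow_mem (ht i) 3) (one_mem _) fun j => by
    rw [cX_pow e8T (ht i), hv, ← pow_mul, mul_comm, pow_mul, hζ.pow_eq_one, one_pow, cX_one]
  obtain ⟨μ0, hμ0⟩ := exists_mu e8T Nat.prime_three inv_E8 (Nat.coprime_one_left _) hζ (ht 0) (h3 0)
  choose μ hμ4 hμ using hs
  have hμ' : ∀ i x, cX e8T (t (Fin.succ i)) x = ζ ^ (B8 (μ i) x) := fun i x => by
    rw [cX_dz hζ (ht _) (hv _), dz_mu (hμ i), ← zpow_val hζ]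
  have hinv : ∀ i x, cX e8T (t i) (repAut cs8 e8T.isCartan w x) = cX e8T (t i) x := by
    intro i
    have h2 : IsMC fun x => cX e8T (t i) (repAut cs8 e8T.isCartan w x) :=
      (isMC_cX e8T (ht i)).comp (repAut cs8 e8T.isCartan w).toAddMonoidHom
    refine fun x => h2.ext (isMC_cX e8T (ht i)) (fun j => ?_) x
    show cX e8T (t i) (rep cs8 e8T.isCartan w (sr j)) = _
    rw [cX_root e8T cs8 (ht i) ((isRoot_sr cs8 e8T.isCartan j).act w), cX_root e8T cs8 (ht i) (isRoot_sr cs8 e8T.isCartan j)]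
    exact hw _ (isRoot_sr cs8 e8T.isCartan j) _ ⟨i, rfl⟩
  obtain ⟨l0, hl0⟩ := fix_class e8T cs8 inv_E8 (Nat.coprime_one_left 3) hFrm8 hζ (by norm_num) hμ0
    (θ := repAut cs8 e8T.isCartan w) (fun x y => hFrm8.inv w x y) (hinv 0)
  have hfix : ∀ i, act w (μ i) = μ i := fun i => by
    obtain ⟨l, hl⟩ := fix_class e8T cs8 inv_E8 (Nat.coprime_one_left 3) hFrm8 hζ (by norm_num) (hμ' i)
      (θ := repAut cs8 e8T.isCartan w) (fun x y => hFrm8.inv w x y) (hinv _)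
    exact fix_small (hμ4 i) hl
  have hl0' : act w μ0 = μ0 - (3 : ℤ) • l0 := hl0
  obtain ⟨ν, hν⟩ : ∃ ν : Q8, ν = ∑ i : Fin n, (7 : ℤ) ^ (i : ℕ) • μ i := ⟨_, rfl⟩
  have hνw : act w ν = ν := by
    rw [hν]
    show rep cs8 e8T.isCartan w _ = _
    rw [map_sum]
    exact Finset.sum_congr rfl fun i _ => by rw [map_smul]; exact congrArg _ (hfix i)
  have hrep : rep cs8 e8T.isCartan w ((3 : ℤ) • ν + (7 : ℤ) ^ n • μ0) =
      ((3 : ℤ) • ν + (7 : ℤ) ^ n • μ0) - ((3 * 7 ^ n : ℕ) : ℤ) • l0 := by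
    rw [map_add, map_smul, map_smul]
    show (3 : ℤ) • act w ν + (7 : ℤ) ^ n • act w μ0 = _
    rw [hνw, hl0']
    push_cast
    module
  have hVV := Cfsg.Agent.H897.T5Lat.mem_VV_of_rep hFrm8 (by positivity) hrep
  refine (?_ : Cfsg.Agent.H897.T5Lat.VV cs8 e8T.isCartan (3 * 7 ^ n) ((3 : ℤ) • ν + (7 : ℤ) ^ n • μ0) ≤ _) hVV
  refine (Subgroup.closure_le _).2 ?_
  rintro _ ⟨u, i, hd, rfl⟩
  have hr : IsRoot cs8 e8T.isCartan (rep cs8 e8T.isCartan u (sr i)) := ⟨u, i, rfl⟩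
  refine rfl_mem_VV (tow e8T cs8 locKK 2) (coL e8T cs8 locKK 2) (chL e8T cs8 locKK 2) hZ ⟨hr, ?_⟩
  generalize rep cs8 e8T.isCartan u (sr i) = β at hr hd
  rw [← hFrm8.cpr _ _ hr, map_add, map_smul, map_smul, LinearMap.add_apply, LinearMap.smul_apply, LinearMap.smul_apply,
    smul_eq_mul, smul_eq_mul] at hd
  push_cast at hd
  have hνβ : B8 ν β = ∑ i : Fin n, 7 ^ (i : ℕ) * B8 (μ i) β := by
    rw [hν, map_sum, LinearMap.sum_apply]
    exact Finset.sum_congr rfl fun i _ => by rw [map_smul, LinearMap.smul_apply, smul_eq_mul]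
  obtain ⟨⟨d1, d2⟩, d3⟩ := digits n (fun i => B8 (μ i) β) fun i => abs_small (hμ4 i) hr
  rw [← hνβ] at d1 d2 d3
  have hcop : IsCoprime ((7 : ℤ) ^ n) 3 := IsCoprime.pow_left (by norm_num [Int.isCoprime_iff_gcd_eq_one])
  have e1 : (7 : ℤ) ^ n ∣ B8 ν β := by
    have h1 : (7 : ℤ) ^ n ∣ 3 * B8 ν β + 7 ^ n * B8 μ0 β := (Dvd.intro_left 3 rfl).trans hd
    exact hcop.dvd_of_dvd_mul_left ((dvd_add_left (Dvd.intro _ rfl)).1 h1)
  have e2 : B8 ν β = 0 := Int.eq_zero_of_abs_lt_dvd e1 (by rw [abs_lt]; omega)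
  have e3 : (3 : ℤ) ∣ B8 μ0 β := by
    have h1 : (3 : ℤ) ∣ 3 * B8 ν β + 7 ^ n * B8 μ0 β := (Dvd.intro _ rfl).trans hd
    exact hcop.symm.dvd_of_dvd_mul_left ((dvd_add_right (Dvd.intro _ rfl)).1 h1)
  rintro _ ⟨k, rfl⟩
  rw [← cX_root e8T cs8 (ht k) hr]
  refine Fin.cases ?_ (fun k => ?_) k
  · obtain ⟨m, hm⟩ := e3
    have h1 : ζ ^ (3 : ℤ) = 1 := by rw [show (3 : ℤ) = ((3 : ℕ) : ℤ) from rfl, zpow_natCast, hζ.pow_eq_one]
    rw [hμ0, hm, zpow_mul, h1, one_zpow]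
  · rw [hμ', d3 e2 k, zpow_zero]

theorem pgroup_comm {G : Type*} [Group G] {S : Set G} (h3 : ∀ x ∈ S, x ^ 3 = 1) (hc : ∀ x ∈ S, ∀ y ∈ S, x * y = y * x) :
    IsPGroup 3 ↥(Subgroup.closure S) := by
  have hcm : ∀ x ∈ Subgroup.closure S, ∀ y ∈ Subgroup.closure S, x * y = y * x := by
    letI := Subgroup.closureCommGroupOfComm hc
    intro x hx y hy
    exact congrArg Subtype.val (mul_comm (⟨x, hx⟩ : ↥(Subgroup.closure S)) ⟨y, hy⟩)
  rintro ⟨y, hy⟩
  refine ⟨1, Subtype.ext ?_⟩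
  show y ^ 3 ^ 1 = 1
  rw [pow_one]
  induction hy using Subgroup.closure_induction with
  | mem a ha => exact h3 a ha
  | one => exact one_pow _
  | mul a b ha hb h1 h2 => rw [(show Commute a b from hcm a ha b hb).mul_pow, h1, h2, one_mul]
  | inv a _ h1 => rw [inv_pow, h1, inv_one]

theorem exists_val (hζ : IsPrimitiveRoot ζ 3) {y : E2} (hy : y ^ 3 = 1) {z : GK} (h : z⁻¹ * em y * z ∈ TT chevE8 KK) :
    ∃ v : Fin 8 → ZMod 3, One y v ζ z := by
  have h3 : (z⁻¹ * em y * z) ^ 3 = 1 := by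
    have e : z⁻¹ * em y * z = z⁻¹ * em y * z⁻¹⁻¹ := by rw [inv_inv]
    rw [e, conj_pow, ← map_pow, hy, map_one, mul_one, mul_inv_cancel]
  have h1 := fun j => Cfsg.Agent.H544.L34.cube_val hζ (Cfsg.Agent.H544.L34.cX_cube h h3 j)
  choose v hv using h1
  exact ⟨v, h, hv⟩

/-- **one more commuting element of order three** -/
theorem TupZ.step (hζ : IsPrimitiveRoot ζ 3) {n : ℕ} {x : Fin (n + 1) → E2} {V : Fin (n + 1) → Fin 8 → ZMod 3} {z : GK}
    (h : TupZ x V ζ z) (hs : ∀ i : Fin n, Sm (V i.succ)) {y : E2} (hy : y ^ 3 = 1) (hc : ∀ i, Commute y (x i)) :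
    ∃ (u : Fin 8 → ZMod 3) (z' : GK), TupZ x V ζ z' ∧ One y u ζ z' := by
  have hcard : Nat.card CoxeterMatrix.E₈.Group = 696729600 :=
    Cfsg.Agent.S1093.result (⟨8, CoxeterMatrix.E₈⟩, 696729600) (by simp)
  obtain ⟨t, htd⟩ : ∃ t : Fin (n + 1) → GK, t = fun i => z⁻¹ * em (x i) * z := ⟨_, rfl⟩
  have ht : ∀ i, t i ∈ TT chevE8 KK := fun i => by rw [htd]; exact (h i).1
  have hv : ∀ i j, cX e8T (t i) (sr j) = ζ ^ (V i j).val := fun i j => by rw [htd]; exact (h i).2 j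
  have hC := conZ hζ ht hv hs
  have hZ : Set.range t ⊆ TT chevE8 KK := by
    rintro _ ⟨i, rfl⟩
    exact ht i
  have h3 : ∀ i, t i ^ 3 = 1 := fun i => cX_inj e8T (pow_mem (ht i) 3) (one_mem _) fun j => by
    rw [cX_pow e8T (ht i), hv, ← pow_mul, mul_comm, pow_mul, hζ.pow_eq_one, one_pow, cX_one]
  obtain ⟨c, hcd⟩ : ∃ c : GK, c = z⁻¹ * em y * z := ⟨_, rfl⟩
  have hc3 : c ^ 3 = 1 := by
    have e : z⁻¹ * em y * z = z⁻¹ * em y * z⁻¹⁻¹ := by rw [inv_inv]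
    rw [hcd, e, conj_pow, ← map_pow, hy, map_one, mul_one, mul_inv_cancel]
  have hcc : ∀ s ∈ Set.range t, c * s = s * c := by
    rintro _ ⟨i, rfl⟩
    have h1 : em y * em (x i) = em (x i) * em y := by rw [← map_mul, ← map_mul, (hc i).eq]
    rw [hcd, htd]
    calc z⁻¹ * em y * z * (z⁻¹ * em (x i) * z) = z⁻¹ * (em y * em (x i)) * z := by group
      _ = z⁻¹ * (em (x i) * em y) * z := by rw [h1]
      _ = _ := by group
  obtain ⟨m, hm, s, hs', hms⟩ := cent_formZ e8T cs8 locKK 2 (Set.finite_range t) hZ hC hcc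
  obtain ⟨g, hg⟩ := H795.TorSub.exists_toral_step e8T 2 locKK (q := 3) (e := 5) (n := 1) Nat.prime_three (by norm_num)
    (by rw [hcard]; norm_num) (Set.finite_range t) hZ hms hm hs' (by rw [pow_one]; exact hc3)
    (Q := Subgroup.closure (insert c (Set.range t))) (pgroup_comm (by
      rintro a (rfl | ⟨i, rfl⟩)
      · exact hc3
      · exact h3 i) (by
      rintro a (rfl | ha) b (rfl | hb)
      · rfl
      · exact hcc b hb
      · exact (hcc a ha).symm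
      · exact TT_comm e8T (hZ ha) (hZ hb))) le_rfl
  have e3 : ∀ a : GK, (z * g⁻¹)⁻¹ * a * (z * g⁻¹) = g * (z⁻¹ * a * z) * g⁻¹ := fun a => by group
  have hx3 : ∀ i, x i ^ 3 = 1 := fun i => by
    apply Cfsg.Agent.H939.L64.em_injective
    have h1 := h3 i
    have e : t i = z⁻¹ * em (x i) * z⁻¹⁻¹ := by rw [htd, inv_inv]
    rw [e, conj_pow, ← map_pow] at h1
    rw [map_one]
    have h2 : ∀ a : GK, z⁻¹ * a * z⁻¹⁻¹ = 1 → a = 1 := fun a ha => by
      calc a = z * (z⁻¹ * a * z⁻¹⁻¹) * z⁻¹ := by group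
        _ = 1 := by rw [ha]; group
    exact h2 _ h1
  have h1 : ∀ i, ∃ v : Fin 8 → ZMod 3, One (x i) v ζ (z * g⁻¹) := fun i => exists_val hζ (hx3 i) (by
    rw [e3]
    refine hg _ (Subgroup.subset_closure (Set.mem_insert_of_mem _ ⟨i, ?_⟩))
    rw [htd])
  choose V' hV' using h1
  obtain ⟨u, hu⟩ := exists_val hζ hy (z := z * g⁻¹) (by
    rw [e3, ← hcd]
    exact hg _ (Subgroup.subset_closure (Set.mem_insert _ _)))
  obtain ⟨w, hw⟩ := TupZ.conj_w hζ h (show TupZ x V' ζ (z * g⁻¹) from hV')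
  obtain ⟨k, hk⟩ := exists_good w
  refine ⟨wa w u, z * g⁻¹ * k, fun i => ?_, One.rp hζ hu hk.rp⟩
  rw [← hw i]
  exact One.rp hζ (hV' i) hk.rp

/-- the lift `gz` of `-1` -/
theorem good_gz : ∃ w, Good w gz ∧ ∀ x, act w x = -x := by
  obtain ⟨w, hw, e⟩ := good_gi
  refine ⟨w * w, hw.mul hw, fun x => ?_⟩
  have key := Cfsg.Agent.H5.L34.act_ext (u := w * w) (c := -1) (fun i => by
    have h1 : act (w * w) (sr i) = act w (act w (sr i)) := rep_mul_apply _ _ _ _ _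
    rw [h1, e, e, ← List.foldr_append, ← List.map_append, neg_one_smul]
    funext j
    have h2 : (sr i : Q8) = fun k => if k = i then 1 else 0 := by
      funext k
      by_cases hk : k = i
      · rw [hk, sr_self, if_pos rfl]
      · rw [sr_ne hk, if_neg hk]
    rw [h2]
    exact fold_sq i j) x
  rw [key, neg_one_smul]

/-- **the frame in which the Frobenius map acts as `gz`** -/
theorem TupZ.frame (hζ : IsPrimitiveRoot ζ 3) {n : ℕ} {x : Fin (n + 1) → E2} {V : Fin (n + 1) → Fin 8 → ZMod 3} {z : GK}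
    (h : TupZ x V ζ z) (hs : ∀ i : Fin n, Sm (V i.succ)) :
    ∃ z', TupZ x V ζ z' ∧ z'⁻¹ * phi chevE8 KK 2 1 z' = gz := by
  obtain ⟨w, hw, hL⟩ := good_gz
  have hcard : Nat.card (ZMod 2) = 2 ^ 1 := by simp
  have hdvd : ∀ v : Fin 8 → ZMod 3, ∀ i, ((3 : ℕ) : ℤ) ∣ vl v (rep cs8 e8T.isCartan w (sr i)) - (2 ^ 1 : ℕ) * vl v (sr i) := by
    intro v i
    have h : rep cs8 e8T.isCartan w (sr i) = -sr i := hL _
    rw [h, Cfsg.Agent.H5.L34.vl_neg]
    exact ⟨-vl v (sr i), by push_cast; ring⟩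
  obtain ⟨z', hz, hzt⟩ := starZ e8T cs8 locKK 2 one_pos (phi_isFrob (D := chevE8) (k := KK) 2 1)
    (phi_fr e8T cs8 2 locKK 1) inv_E8 one_ne_zero (ι := Fin (n + 1)) (x := fun i => em (x i))
    (t := fun i => z⁻¹ * em (x i) * z) (fun i => (h i).1)
    (conZ hζ (fun i => (h i).1) (fun i => (h i).2) hs) (n := gz) (z := z) hw.rp
    (fun i => Cfsg.Agent.H378.TorFin.phi_emb' e8T (algebraMap (ZMod 2) KK) 2 hcard (x i)) (fun _ => rfl)
    (fun i => twist_fix 2 1 (N := 3) (by norm_num) locKK hζ (h i).1 (h i).2 (hdvd (V i)) hw.rp)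
  refine ⟨z', fun i => ?_, hz⟩
  rw [hzt i]
  exact h i

end Cfsg.Agent.E82.Fr
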